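import Cfsg.Agent.LThreeFi23.Base
import Cfsg.Agent.Lib.PermNetFix
import Cfsg.Agent.H593.IMRank

/-!
# `Fi₂₃`: at least fifty conjugacy classes (helper870)

`Fx g` : the number of the fixed points of `g` among the 31671 points. The pairs `(Fx g, Fx g²)` separate fifty
Coxeter elements of subdiagrams of the extended diagram.
-/

set_option autoImplicit false
set_option maxRecDepth 100000
set_option exponentiation.threshold 40000

namespace Cfsg.Agent.H870.Fi23Fix

open Cfsg Cfsg.Agent.Lib.PermNet Cfsg.Agent.Lib.PermNetFix Cfsg.Agent.Lib.PermNetOrbit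
open Cfsg.Agent.LThreeFi23 Cfsg.Agent.Fischer.Fi23Hom
open Cfsg.Spor (Fi23)

/-- the number of fixed points -/
noncomputable def Fx (g : Fi23) : ℕ := {p : ℕ | p < 31671 ∧ rho g p = p}.ncard

theorem Fx_conj (h g : Fi23) : Fx (h * g * h⁻¹) = Fx g := by
  symm
  unfold Fx
  refine Set.ncard_congr (fun p _ => rho h p) ?_ ?_ ?_
  · rintro p ⟨hp, hg⟩
    refine ⟨act_lt h hp, ?_⟩
    have e : (rho h)⁻¹ (rho h p) = p := (rho h).symm_apply_apply p
    rw [map_mul, map_mul, Equiv.Perm.mul_apply, Equiv.Perm.mul_apply, map_inv, e, hg]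
  · intro p q _ _ hpq
    exact (rho h).injective hpq
  · rintro q ⟨hq, hg⟩
    have e : ∀ r, rho h ((rho h)⁻¹ r) = r := fun r => (rho h).apply_symm_apply r
    refine ⟨rho h⁻¹ q, ⟨act_lt _ hq, ?_⟩, ?_⟩
    · rw [map_mul, map_mul, Equiv.Perm.mul_apply, Equiv.Perm.mul_apply, map_inv] at hg
      apply (rho h).injective
      rw [map_inv, hg, e]
    · rw [map_inv, e]

theorem Fx_isConj {g g' : Fi23} (h : IsConj g g') : Fx g = Fx g' := by
  obtain ⟨c, rfl⟩ := isConj_iff.1 h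
  rw [Fx_conj]

/-- the mask of the fixed points of a word -/
noncomputable def fxm (l : List Lt) : ℕ :=
  seq (Nat.sub (Nat.pow 2 31671) 1) fun m => seq (moved 15 (ntw l)) fun x => Nat.land m (Nat.xor x m)

theorem fxm_eq (l : List Lt) : fxm l = (2 ^ 31671 - 1) &&& (moved 15 (ntw l) ^^^ (2 ^ 31671 - 1)) := by
  unfold fxm
  rw [seq_eq, seq_eq]
  rfl

theorem testBit_fxm (l : List Lt) (p : ℕ) : (fxm l).testBit p = true ↔ p < 31671 ∧ rho (elw l) p = p := by
  rw [fxm_eq, Nat.testBit_and, Nat.testBit_xor, Nat.testBit_two_pow_sub_one]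
  by_cases hp : p < 31671
  · have hp' : p < 2 ^ 15 := lt_trans hp (by norm_num)
    rw [decide_eq_true hp, Bool.true_and, Bool.xor_true, Bool.not_eq_true', testBit_moved_false (ntw_ok l) hp',
      rho_elw]
    exact ⟨fun h => ⟨hp, h⟩, fun h => h.2⟩
  · rw [decide_eq_false hp, Bool.false_and]
    exact ⟨fun h => absurd h (by decide), fun h => absurd h.1 hp⟩

theorem fxm_lt (l : List Lt) : fxm l < 2 ^ 2 ^ 15 := by
  refine lt_of_lt_of_le (b := 2 ^ 31671) ?_ (Nat.pow_le_pow_right (by norm_num) (by norm_num))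
  rw [fxm_eq]
  exact lt_of_le_of_lt Nat.and_le_left (Nat.sub_lt (pow_pos (by norm_num) _) (by norm_num))

theorem Fx_word (l : List Lt) : Fx (elw l) = pc 15 (fxm l) := by
  rw [pc_eq 15 _ (fxm_lt l), Fx, ← Set.ncard_coe_finset]
  congr 1
  ext p
  rw [Finset.mem_coe, mem_bits, testBit_fxm]
  constructor
  · rintro ⟨h1, h2⟩
    exact ⟨lt_trans h1 (by norm_num), h1, h2⟩
  · rintro ⟨-, h1, h2⟩
    exact ⟨h1, h2⟩

/-- the kernel check -/
noncomputable def chk (q : List Lt × ℕ × ℕ) : Bool :=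
  Bool.and (Nat.beq (pc 15 (fxm q.1)) q.2.1) (Nat.beq (pc 15 (fxm (q.1 ++ q.1))) q.2.2)

theorem chk_spec {q : List Lt × ℕ × ℕ} (h : chk q = true) :
    Fx (elw q.1) = q.2.1 ∧ Fx (elw q.1 * elw q.1) = q.2.2 := by
  unfold chk at h
  have h' := Bool.and_eq_true_iff.1 h
  rw [← elw_append, Fx_word, Fx_word]
  exact ⟨Nat.eq_of_beq_eq_true h'.1, Nat.eq_of_beq_eq_true h'.2⟩

/-- fifty words with the numbers of fixed points of the elements and of their squares -/
def tab : List (List Lt × ℕ × ℕ) :=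
  [([.a, .b, .c, .d], 21, 21),
   ([.a, .b], 351, 351),
   ([.a, .b, .d], 127, 351),
   ([.a, .b, .d, .e], 135, 135),
   ([.a, .b, .c, .d, .f], 11, 21),
   ([.b, .c, .d, .e, .h], 7, 39),
   ([.a, .b, .c, .e, .f], 15, 47),
   ([.c, .d, .e, .h], 15, 351),
   ([.a, .b, .d, .f], 47, 351),
   ([.a, .b, .c, .d, .e], 15, 135),
   ([.a, .b, .d, .e, .g], 37, 135),
   ([.a, .b, .c], 63, 695),
   ([.a, .b, .c, .d, .h], 45, 135),
   ([.b, .c, .d, .e, .f, .h], 3, 3),
   ([.a, .b, .c, .d, .f, .g], 6, 6),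
   ([.a, .b, .c, .d, .e, .f], 10, 10),
   ([.c, .d, .e, .f, .h, .i], 12, 12),
   ([.c, .d, .e, .f, .g, .h], 5, 21),
   ([.b, .c, .d, .e, .h, .i], 12, 36),
   ([.a, .b, .d, .f, .g, .h], 27, 27),
   ([.a, .b, .c, .e, .f, .h], 7, 47),
   ([.a, .b, .c, .d, .e, .g], 9, 135),
   ([.a, .b, .c, .e], 31, 695),
   ([.a, .b, .d, .e, .g, .i], 11, 135),
   ([.a, .b, .c, .e, .f, .g], 39, 183),
   ([.b, .c, .d, .e, .f, .h, .j], 1, 3),
   ([.a, .b, .c, .d, .f, .g, .j], 3, 5),
   ([.a, .b, .c, .d, .f, .g, .i], 2, 6),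
   ([.a, .b, .c, .e, .f, .h, .i], 3, 11),
   ([.a, .b, .c, .d, .e, .f, .i], 4, 10),
   ([.c, .d, .e, .f, .h, .i, .j], 4, 12),
   ([.b, .c, .d, .e, .f, .h, .i], 4, 18),
   ([.a, .c, .d, .e, .f, .g, .h], 3, 21),
   ([.a, .b, .d, .e, .g, .i, .j], 1, 27),
   ([.a, .b, .c, .d, .f, .g, .h], 3, 27),
   ([.a, .b, .d, .e, .f, .g, .h], 9, 27),
   ([.a, .b, .c, .d, .e, .h, .i], 18, 18),
   ([.b, .c, .d, .e, .g, .h, .i], 4, 36),
   ([.a, .b, .c, .e, .f, .g, .h], 7, 183),
   ([.b, .c, .d, .e, .f, .g, .h, .j], 0, 0),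
   ([.a, .b, .c, .d, .f, .g, .h, .i], 1, 1),
   ([.a, .b, .c, .e, .f, .g, .h, .j], 1, 5),
   ([.a, .b, .c, .d, .f, .g, .h, .j], 1, 11),
   ([.a, .b, .c, .d, .e, .f, .i, .j], 2, 10),
   ([.a, .b, .c, .e, .f, .g, .h, .i], 3, 15),
   ([.a, .c, .d, .e, .f, .g, .h, .i], 2, 18),
   ([.a, .e, .f, .h, .i, .j, .z], 28, 324),
   ([.e, .f, .h, .i, .j, .z], 324, 324),
   ([.d, .e, .f, .h, .i, .j, .z], 36, 324),
   ([.a, .b, .c, .d, .f, .g, .h, .i, .j], 0, 2)]

theorem tab_len : tab.length = 50 := by decide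

theorem tab_nodup : (tab.map fun q => q.2).Nodup := by decide +kernel

/-- the kernel check of a list of entries -/
noncomputable def chkL (l : List (List Lt × ℕ × ℕ)) : Bool :=
  List.rec (motive := fun _ => Bool) true (fun q _ ih => Bool.and (chk q) ih) l

theorem chkL_spec {l : List (List Lt × ℕ × ℕ)} (h : chkL l = true) : ∀ q ∈ l, chk q = true := by
  induction l with
  | nil => intro q hq; exact absurd hq (by simp)
  | cons a l ih =>
    have h' : (chk a && chkL l) = true := h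
    rw [Bool.and_eq_true] at h'
    intro q hq
    rcases List.mem_cons.1 hq with rfl | hq
    · exact h'.1
    · exact ih h'.2 q hq

theorem chk_all : chkL tab = true := by decide +kernel

theorem tab_spec {q : List Lt × ℕ × ℕ} (hq : q ∈ tab) :
    Fx (elw q.1) = q.2.1 ∧ Fx (elw q.1 * elw q.1) = q.2.2 := chk_spec (chkL_spec chk_all q hq)

theorem inj_of_isConj {q q' : List Lt × ℕ × ℕ} (hq : q ∈ tab) (hq' : q' ∈ tab)
    (h : IsConj (elw q.1) (elw q'.1)) : q.2 = q'.2 := by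
  obtain ⟨h1, h2⟩ := tab_spec hq
  obtain ⟨h3, h4⟩ := tab_spec hq'
  have h5 := Fx_isConj h
  obtain ⟨c, hc⟩ := isConj_iff.1 h
  have h6 : IsConj (elw q.1 * elw q.1) (elw q'.1 * elw q'.1) := isConj_iff.2 ⟨c, by rw [← hc]; group⟩
  have h7 := Fx_isConj h6
  rw [h1, h3] at h5
  rw [h2, h4] at h7
  exact Prod.ext h5 h7

/-- **`Fi₂₃` has at least fifty conjugacy classes.** -/
theorem fifty_le : 50 ≤ Nat.card (ConjClasses Fi23) := by
  have h := H593.IMRank.card_le_conjClasses (G := Fi23) (fun i : Fin tab.length => elw (tab.get i).1)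
    (fun i j hij => by
      have h1 := inj_of_isConj (List.get_mem tab i) (List.get_mem tab j) hij
      have h2 := List.nodup_iff_injective_get.1 tab_nodup
      have hi : i.val < (tab.map fun q => q.2).length := by rw [List.length_map]; exact i.2
      have hj : j.val < (tab.map fun q => q.2).length := by rw [List.length_map]; exact j.2
      have h3 : (tab.map fun q => q.2).get ⟨i.val, hi⟩ = (tab.map fun q => q.2).get ⟨j.val, hj⟩ := by
        simp only [List.get_eq_getElem, List.getElem_map]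
        exact h1
      have h4 := h2 h3
      exact Fin.ext (congrArg Fin.val h4))
  rw [Fintype.card_fin, tab_len] at h
  exact h

end Cfsg.Agent.H870.Fi23Fix
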