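import Cfsg.Agent.H33.RD
import Cfsg.Agent.H593.IMPairs

/-!
# Ito-Michler from the centralizer of an element of prime order (helper870)

`im_of_cent` : `x` has order `p`, `p³` does not divide `|C(x)|`, and `C(x)` has an irreducible character of degree
divisible by `p` (e.g. `C(x) = ⟨x⟩ × A` with such a character of `A`, `p ∥ |A|`): `IM p G`.
`im_five_alt` : `IM 5 A₅`.
-/

set_option autoImplicit false

namespace Cfsg.Agent.H870.IMLocal

open Cfsg Cfsg.Agent.H33 Subgroup

universe u

theorem centralizer_zpowers {X : Type*} [Group X] (x : X) :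
    centralizer ({x} : Set X) = centralizer ((zpowers x : Subgroup X) : Set X) := by
  rw [zpowers_eq_closure, centralizer_closure]

/-- A `p`-element normalising a group of order `p` centralises it. -/
theorem mem_centralizer_of_normalizer {G : Type*} [Group G] [Finite G] {p : ℕ} [hp : Fact p.Prime] {x g : G}
    (hx : orderOf x = p) (hg : g ∈ normalizer ((zpowers x : Subgroup G) : Set G)) (hk : ∃ k : ℕ, orderOf g = p ^ k) :
    g ∈ centralizer ((zpowers x : Subgroup G) : Set G) := by
  obtain ⟨k, hk⟩ := hk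
  -- the `p`-group generated by `x` and `g`
  have hgx : g * x * g⁻¹ ∈ zpowers x := (mem_normalizer_iff.1 hg x).1 (mem_zpowers x)
  obtain ⟨n, hn⟩ := (mem_zpowers_iff).1 hgx
  have hP : IsPGroup p (zpowers g) := IsPGroup.iff_card.2 ⟨k, by rw [Nat.card_zpowers, hk]⟩
  let act : MulAction (zpowers g) (zpowers x : Subgroup G) :=
    { smul := fun a b => ⟨(a : G) * b * (a : G)⁻¹, by
        have ha : (a : G) ∈ normalizer ((zpowers x : Subgroup G) : Set G) :=
          (zpowers_le.2 hg) a.2
        exact (mem_normalizer_iff.1 ha b).1 b.2⟩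
      one_smul := fun b => Subtype.ext (by
        show (1 : G) * b * (1 : G)⁻¹ = b
        group)
      mul_smul := fun a b c => Subtype.ext (by
        show ((a : G) * b) * c * ((a : G) * b)⁻¹ = a * (b * c * (b : G)⁻¹) * (a : G)⁻¹
        group) }
  have h1 := hP.card_modEq_card_fixedPoints (α := (zpowers x : Subgroup G))
  rw [Nat.card_zpowers, hx] at h1
  have h2 : p ∣ Nat.card (MulAction.fixedPoints (zpowers g) (zpowers x : Subgroup G)) :=
    (h1.dvd_iff dvd_rfl).1 dvd_rfl
  -- the fixed points
  have h3 : 1 < Nat.card (MulAction.fixedPoints (zpowers g) (zpowers x : Subgroup G)) := by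
    have h4 : 0 < Nat.card (MulAction.fixedPoints (zpowers g) (zpowers x : Subgroup G)) := by
      have : Nonempty (MulAction.fixedPoints (zpowers g) (zpowers x : Subgroup G)) :=
        ⟨⟨1, fun a => Subtype.ext (by
          show (a : G) * ((1 : (zpowers x : Subgroup G)) : G) * (a : G)⁻¹ = _
          rw [OneMemClass.coe_one, mul_one, mul_inv_cancel])⟩⟩
      exact Nat.card_pos
    exact lt_of_lt_of_le hp.out.one_lt (Nat.le_of_dvd h4 h2)
  obtain ⟨⟨a, ha⟩, ⟨b, hb⟩, hab⟩ := (Finite.one_lt_card_iff_nontrivial.1 h3).exists_pair_ne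
  -- a nontrivial element of `⟨x⟩` commuting with `g`
  obtain ⟨y, hy, hy1, hyg⟩ : ∃ y ∈ zpowers x, y ≠ 1 ∧ g * y * g⁻¹ = y := by
    have hfix : ∀ c : (zpowers x : Subgroup G), c ∈ MulAction.fixedPoints (zpowers g) (zpowers x : Subgroup G) →
        g * c * g⁻¹ = c := fun c hc => congrArg Subtype.val (hc ⟨g, mem_zpowers g⟩)
    by_cases ha1 : (a : G) = 1
    · refine ⟨b, b.2, fun hb1 => hab ?_, hfix b hb⟩
      exact Subtype.ext (Subtype.ext (ha1.trans hb1.symm))
    · exact ⟨a, a.2, ha1, hfix a ha⟩
  have hy2 : orderOf y = p := by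
    have h5 : orderOf y ∣ p := by
      rw [← hx]
      exact orderOf_dvd_of_mem_zpowers hy
    rcases (Nat.dvd_prime hp.out).1 h5 with h6 | h6
    · exact absurd (orderOf_eq_one_iff.1 h6) hy1
    · exact h6
  have hzz : zpowers y = zpowers x := by
    apply eq_of_le_of_card_ge (zpowers_le.2 hy)
    rw [Nat.card_zpowers, Nat.card_zpowers, hx, hy2]
  rw [← hzz, ← centralizer_zpowers, mem_centralizer_singleton_iff]
  exact mul_inv_eq_iff_eq_mul.1 hyg

/-- **IM from the centralizer of an element of prime order.** -/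
theorem im_of_cent {G : Type u} [Group G] [Finite G] {p : ℕ} [hp : Fact p.Prime] {x : G} (hx : orderOf x = p)
    (h : IM p (centralizer ({x} : Set G))) (hc : ¬ p ^ 3 ∣ Nat.card (centralizer ({x} : Set G)))
    (hG : p ^ 2 ∣ Nat.card G) : IM p G := by
  obtain ⟨D, hD⟩ : ∃ D : Subgroup G, D = zpowers x := ⟨_, rfl⟩
  rw [centralizer_zpowers, ← hD] at h hc
  obtain ⟨θ, hθ⟩ := h
  have hcard : Nat.card D = p := by rw [hD, Nat.card_zpowers, hx]
  have hDp : IsPGroup p D := IsPGroup.iff_card.2 ⟨1, by rw [hcard, pow_one]⟩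
  have hDC : D ≤ centralizer (D : Set G) := by
    rw [hD, ← centralizer_zpowers, zpowers_le, mem_centralizer_singleton_iff]
  refine IM.of_local D hDp ?_ θ ?_ ?_
  · have h1 := D.card_mul_index
    rw [hcard] at h1
    rw [← h1, pow_two] at hG
    exact (Nat.mul_dvd_mul_iff_left hp.out.pos).1 hG
  · have h1 : (Nat.card (centralizer (D : Set G))).factorization p ≤ 2 := by
      by_contra hcon
      push Not at hcon
      exact hc ((hp.out.pow_dvd_iff_le_factorization Nat.card_pos.ne').2 hcon)
    have h2 : 1 ≤ (charDegree (θ : centralizer (D : Set G) → ℂ)).factorization p :=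
      (hp.out.dvd_iff_one_le_factorization (Cfsg.Agent.Blocks.Basic.charDegree_pos θ.2).ne').1 hθ
    have h3 : (Nat.card ↥(D ⊓ centralizer (D : Set G))).factorization p = 1 := by
      rw [inf_eq_left.2 hDC, hcard, hp.out.factorization_self]
    omega
  · intro g hg hk
    subst hD
    exact mem_sup_right (mem_centralizer_of_normalizer hx hg hk)

/-! ### `A₅` -/

def u5 : alternatingGroup (Fin 5) := ⟨Equiv.swap 0 1 * Equiv.swap 2 3, Equiv.Perm.mem_alternatingGroup.2 (by decide)⟩

theorem im_five_alt : IM 5 (alternatingGroup (Fin 5)) := by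
  have : Fact (Nat.Prime 5) := ⟨by norm_num⟩
  have h60 : Nat.card (alternatingGroup (Fin 5)) = 60 := by
    rw [Nat.card_eq_fintype_card]
    decide +kernel
  refine H593.IMPairs.IM_of_inverted (u := u5) (by norm_num) (by decide) ?_ ?_
  · have h1 : Nat.card (centralizer ({u5} : Set (alternatingGroup (Fin 5)))) = 4 := by
      have h2 : Nat.card (centralizer ({u5} : Set (alternatingGroup (Fin 5)))) =
          Nat.card {g : alternatingGroup (Fin 5) // g * u5 = u5 * g} :=
        Nat.card_congr (Equiv.subtypeEquivRight fun g => mem_centralizer_singleton_iff)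
      rw [h2, Nat.card_eq_fintype_card]
      decide +kernel
    have h3 := (centralizer ({u5} : Set (alternatingGroup (Fin 5)))).card_mul_index
    rw [h1, h60] at h3
    exact ⟨3, by omega⟩
  · have h1 : Nat.card {g : alternatingGroup (Fin 5) // (∃ k : ℕ, orderOf g = 5 ^ k) ∧ u5 * g * u5⁻¹ = g⁻¹} =
        Nat.card {g : alternatingGroup (Fin 5) // g * g * g * g * g = 1 ∧ u5 * g * u5⁻¹ = g⁻¹} := by
      refine Nat.card_congr (Equiv.subtypeEquivRight fun g => and_congr_left fun _ => ?_)
      have h5 : g * g * g * g * g = g ^ 5 := by simp only [pow_succ, pow_zero, one_mul]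
      rw [h5]
      constructor
      · rintro ⟨k, hk⟩
        have h2 : orderOf g ∣ 60 := h60 ▸ orderOf_dvd_natCard g
        have h3 : k ≤ 1 := by
          by_contra hcon
          push Not at hcon
          have h4 : 5 ^ 2 ∣ 60 := (pow_dvd_pow 5 hcon).trans (hk ▸ h2)
          revert h4
          decide
        rw [← orderOf_dvd_iff_pow_eq_one, hk]
        exact pow_dvd_pow 5 h3
      · intro h
        obtain ⟨k, -, hk⟩ := (Nat.dvd_prime_pow (by norm_num : Nat.Prime 5)).1
          (orderOf_dvd_of_pow_eq_one (n := 5 ^ 1) (by simpa using h))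
        exact ⟨k, hk⟩
    rw [h1, Nat.card_eq_fintype_card]
    have h2 : Fintype.card {g : alternatingGroup (Fin 5) // g * g * g * g * g = 1 ∧ u5 * g * u5⁻¹ = g⁻¹} = 9 := by
      decide +kernel
    rw [h2]
    decide

end Cfsg.Agent.H870.IMLocal
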