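import Cfsg.Agent.H870.IMR3
import Cfsg.Agent.H870.IMLocal
import Cfsg.Agent.H690.Spor.Ru
import Cfsg.Agent.CpAutRuFive.Main
import Cfsg.Agent.H352.Order120
import Cfsg.Agent.Lib.VonDyck

/-!
# Ito-Michler for `Ru` (helper870)

2, 3, 7, 13, 29: the rank 3 permutation character on 4060 points. 5: the centralizer `5 × A₅`.
-/

set_option autoImplicit false
set_option maxRecDepth 100000

namespace Cfsg.Agent.H870.IMRu

open Cfsg Cfsg.Agent.H33 Subgroup Cfsg.Agent.H870.IMR3 Cfsg.Agent.H870.IMLocal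
open Cfsg.Agent.SporadicB Cfsg.Agent.RuD.Letters Cfsg.Agent.SporRec.TCUpperCert
open Cfsg.Agent.KFacts.Ru Cfsg.Agent.KFacts.Ru.CentEng Cfsg.Agent.CpAutRuFive

universe u v

/-- `x` of order 5 with `|C(x)| ≤ 300`, and `(2,3,5)` elements in `C(x)`. -/
theorem im_cent_five {G : Type v} [Group G] [Finite G] {x a b : G} (hx : orderOf x = 5)
    (hC : Nat.card ↥(centralizer ({x} : Set G)) ≤ 300) (hax : a * x = x * a) (hbx : b * x = x * b)
    (ha : a ^ 2 = 1) (hb : b ^ 3 = 1) (hab : (a * b) ^ 5 = 1) (ha1 : a ≠ 1) :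
    IM 5 (centralizer ({x} : Set G)) ∧ ¬ 5 ^ 3 ∣ Nat.card ↥(centralizer ({x} : Set G)) := by
  set C := centralizer ({x} : Set G) with hCd
  let a' : C := ⟨a, mem_centralizer_singleton_iff.2 hax⟩
  let b' : C := ⟨b, mem_centralizer_singleton_iff.2 hbx⟩
  let x' : C := ⟨x, mem_centralizer_singleton_iff.2 rfl⟩
  have hx' : orderOf x' = 5 := by rw [← hx, ← Subgroup.orderOf_coe]
  obtain ⟨e⟩ := Lib.VonDyck.closure_equiv_alternatingFive (a := a') (b := b') (Subtype.ext ha) (Subtype.ext hb)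
    (Subtype.ext hab) (Or.inl fun h => ha1 (congrArg Subtype.val h))
  have hns : ¬ Group.IsSolvable C := by
    intro h
    have h1 : Group.IsSolvable (closure {a', b'} : Subgroup C) :=
      Group.isSolvable_of_isSolvable_injective (f := (closure {a', b'} : Subgroup C).subtype) Subtype.val_injective
    have h2 : Group.IsSolvable (alternatingGroup (Fin 5)) :=
      Group.isSolvable_of_isSolvable_injective (f := e.symm.toMonoidHom) e.symm.injective
    have := alternatingGroup.isSimpleGroup (α := Fin 5) (by simp)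
    have h3 := IsSimpleGroup.comm_iff_isSolvable.2 h2 u5 Lib.VonDyck.b5
    revert h3
    decide
  have hcen : zpowers x' ≤ center C := by
    rw [zpowers_le, mem_center_iff]
    intro y
    exact Subtype.ext (mem_centralizer_singleton_iff.1 y.2)
  have hN : (zpowers x').Normal := by
    constructor
    intro z hz g
    rw [mem_center_iff.1 (hcen hz) g, mul_inv_cancel_right]
    exact hz
  have hq : ¬ Group.IsSolvable (C ⧸ zpowers x') := by
    intro h
    apply hns
    have h1 : Group.IsSolvable (zpowers x') := Group.isSolvable_of_comm fun u v => by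
      apply Subtype.ext
      exact (mem_center_iff.1 (hcen v.2) u)
    exact Group.isSolvable_of_ker_le_range (zpowers x').subtype (QuotientGroup.mk' (zpowers x')) (by
      rw [QuotientGroup.ker_mk', Subgroup.range_subtype])
  have hcard : Nat.card C = Nat.card (C ⧸ zpowers x') * 5 := by
    rw [Subgroup.card_eq_card_quotient_mul_card_subgroup (zpowers x'), Nat.card_zpowers, hx']
  have h60 : Nat.card (C ⧸ zpowers x') = 60 := by
    apply le_antisymm
    · omega
    · by_contra hlt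
      push Not at hlt
      exact hq (H352.Order120.solvable_of_card_lt _ (C ⧸ zpowers x') rfl hlt)
  obtain ⟨f⟩ := H352.Order120.alt5_of_card_60 h60 hq
  refine ⟨IM.of_quotient (zpowers x') (im_five_alt.of_equiv f), ?_⟩
  rw [hcard, h60]
  norm_num

open Cfsg.Agent.CpAutRuFive.Cert

theorem chkY : chkRel [[5, 5], [0, 4, 0, 4, 0, 4], [5, 0, 4, 5, 0, 4, 5, 0, 4, 5, 0, 4, 5, 0, 4]] = true := by
  decide +kernel
theorem chkNe : Nat.beq (evalK [5] 0) 0 = false := by decide +kernel
theorem chkCa : chkEq ([5] ++ wB) (wB ++ [5]) = true := by decide +kernel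
theorem chkCb : chkEq ([0, 4] ++ wB) (wB ++ [0, 4]) = true := by decide +kernel

theorem ne_one : (wprod ml [5] : RuOrder.H) ≠ 1 := by
  intro h1
  have h2 := evalK_eq [5] ⟨0, by norm_num⟩
  rw [h1] at h2
  have h3 : evalK [5] 0 = 0 := h2.symm
  have h4 := chkNe
  rw [h3] at h4
  exact absurd h4 (by decide)

/-- **`p = 5`** -/
theorem im_five : IM 5 RuOrder.H := by
  have := finite_H
  have : Fact (Nat.Prime 5) := ⟨by norm_num⟩
  have hr := rel_of_chk chkY
  have hY : wprod ml [5, 5] = (1 : RuOrder.H) := hr _ (by simp)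
  have hB : wprod ml [0, 4, 0, 4, 0, 4] = (1 : RuOrder.H) := hr _ (by simp)
  have hYB : wprod ml [5, 0, 4, 5, 0, 4, 5, 0, 4, 5, 0, 4, 5, 0, 4] = (1 : RuOrder.H) := hr _ (by simp)
  have e1 : wprod ml [5, 5] = (wprod ml [5] : RuOrder.H) ^ 2 := by
    rw [show ([5, 5] : List ℕ) = [5] ++ [5] from rfl, wprod_append, pow_two]
  have e2 : wprod ml [0, 4, 0, 4, 0, 4] = (wprod ml [0, 4] : RuOrder.H) ^ 3 := by
    rw [show ([0, 4, 0, 4, 0, 4] : List ℕ) = [0, 4] ++ ([0, 4] ++ [0, 4]) from rfl, wprod_append, wprod_append]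
    simp only [pow_succ, pow_zero, one_mul, mul_assoc]
  have e3 : wprod ml [5, 0, 4, 5, 0, 4, 5, 0, 4, 5, 0, 4, 5, 0, 4] =
      ((wprod ml [5] : RuOrder.H) * wprod ml [0, 4]) ^ 5 := by
    rw [show ([5, 0, 4, 5, 0, 4, 5, 0, 4, 5, 0, 4, 5, 0, 4] : List ℕ) =
      ([5] ++ [0, 4]) ++ (([5] ++ [0, 4]) ++ (([5] ++ [0, 4]) ++ (([5] ++ [0, 4]) ++ ([5] ++ [0, 4])))) from rfl]
    simp only [wprod_append]
    simp only [pow_succ, pow_zero, one_mul, mul_assoc]
  have hca := eq_of_chkEq chkCa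
  have hcb := eq_of_chkEq chkCb
  rw [wprod_append, wprod_append] at hca hcb
  obtain ⟨h1, h2⟩ := im_cent_five (x := (wprod ml wB : RuOrder.H)) orderB cardB hca hcb (e1.symm.trans hY)
    (e2.symm.trans hB) (e3.symm.trans hYB) ne_one
  refine im_of_cent orderB h1 h2 ?_
  rw [SporadicB.RuOrder.card_H]
  norm_num

/-- **Ito-Michler for `Ru`.** -/
theorem im_ru {S : Type u} [Group S] (h : Cfsg.Spor.IsoRu S) {p : ℕ} [hp : Fact p.Prime]
    (hd : p ∣ Nat.card S) : IM p S := by
  obtain ⟨e⟩ := h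
  have e' := e.trans Cfsg.Agent.RuLat.Main.equiv
  refine IM.of_equiv e' ?_
  have := finite_H
  rw [Nat.card_congr e'.toEquiv, SporadicB.RuOrder.card_H] at hd
  obtain ⟨R, hR⟩ := H690.Spor.Ru.r3
  have hpr := hp.out
  have h5 : p ∣ 2 ^ 14 * 3 ^ 3 * 5 ^ 3 * 7 * 13 * 29 := by
    norm_num
    exact hd
  have key : p = 2 ∨ p = 3 ∨ p = 5 ∨ p = 7 ∨ p = 13 ∨ p = 29 := by
    have two {q : ℕ} (hq : q.Prime) {k : ℕ} (h : p ∣ q ^ k) : p = q :=
      (Nat.prime_dvd_prime_iff_eq hpr hq).1 (hpr.dvd_of_dvd_pow h)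
    rcases hpr.dvd_mul.1 h5 with h5 | h5
    · rcases hpr.dvd_mul.1 h5 with h5 | h5
      · rcases hpr.dvd_mul.1 h5 with h5 | h5
        · rcases hpr.dvd_mul.1 h5 with h5 | h5
          · rcases hpr.dvd_mul.1 h5 with h5 | h5
            · exact Or.inl (two (by norm_num) h5)
            · exact Or.inr (Or.inl (two (by norm_num) h5))
          · exact Or.inr (Or.inr (Or.inl (two (by norm_num) h5)))
        · exact Or.inr (Or.inr (Or.inr (Or.inl (two (k := 1) (by norm_num) (by simpa using h5)))))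
      · exact Or.inr (Or.inr (Or.inr (Or.inr (Or.inl (two (k := 1) (by norm_num) (by simpa using h5))))))
    · exact Or.inr (Or.inr (Or.inr (Or.inr (Or.inr (two (k := 1) (by norm_num) (by simpa using h5))))))
  have hne := ne_of_odd (k := 1755) (l := 2304) (N := (1 + 1755 + 2304) * 1755 * 2304) (by decide)
  rcases key with rfl | rfl | rfl | rfl | rfl | rfl
  · exact im_two hR (by decide)
  · refine im_of_odd hR hne ?_
    rw [H690.Spor.RankRows.fac (n := 5) (m := 1 * 4060 * 65 * 256) (by norm_num) (by norm_num) (by norm_num)]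
    decide
  · exact im_five
  · refine im_of_odd hR hne ?_
    rw [H690.Spor.RankRows.fac (n := 1) (m := 580 * 1755 * 2304) (by norm_num) (by norm_num) (by norm_num)]
    decide
  · refine im_of_odd hR hne ?_
    rw [H690.Spor.RankRows.fac (n := 1) (m := 4060 * 135 * 2304) (by norm_num) (by norm_num) (by norm_num)]
    decide
  · refine im_of_odd hR hne ?_
    rw [H690.Spor.RankRows.fac (n := 1) (m := 140 * 1755 * 2304) (by norm_num) (by norm_num) (by norm_num)]
    decide

end Cfsg.Agent.H870.IMRu
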