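import Cfsg.Agent.H147.SzReal
import Cfsg.Agent.H98.SzReal
import Cfsg.Agent.H92.KTools

/-!
# The Suzuki groups have many conjugacy classes: `q ≤ k(Sz(q))`, `11 ≤ k(Sz(8))`
-/

set_option autoImplicit false

namespace Cfsg.Agent.H870.KSz

open Cfsg.Agent.LieExceptional
open Cfsg.Agent.LieRecognition.SzMatrix (Good good theta Umat_def theta_ne_zero)
open Cfsg.Agent.H147.Sz Cfsg.Agent.H92.KTools

variable {F : Type*} [Field F] [Fintype F] {m : ℕ}

theorem q_add_le (hm : 1 ≤ m) (hF : Fintype.card F = 2 ^ (2 * m + 1)) :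
    2 ^ (2 * m + 1) + 3 ≤ Nat.card (ConjClasses ↥(Cfsg.Lie.Sz F (2 ^ (m + 1)))) := by
  classical
  have : Finite ↥(Cfsg.Lie.Sz F (2 ^ (m + 1))) := inferInstance
  have H := good hF
  set x : ↥(Cfsg.Lie.Sz F (2 ^ (m + 1))) := lift hm hF (SuzukiSylow.u hF 1 0) with hx
  have hx_inv : x⁻¹ = lift hm hF (SuzukiSylow.u hF 1 0)⁻¹ := (map_inv _ _).symm
  have hxt : tr x = 0 := by
    rw [hx, lift_u]
    exact tr_u _ _ _
  have hxit : tr x⁻¹ = 0 := by
    rw [hx_inv, SuzukiSylow.u_inv, lift_u]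
    exact tr_u _ _ _
  have hxx : x * x ≠ 1 := by
    intro h
    rw [hx, lift_u, u_sq, u_eq_one_iff] at h
    simp at h
  have hnc : ¬ IsConj x x⁻¹ := by
    intro h
    obtain ⟨c, hc⟩ := isConj_iff.1 h
    obtain ⟨c0, rfl⟩ := lift_surjective hm hF c
    rw [hx_inv, hx, ← map_inv, ← map_mul, ← map_mul] at hc
    exact one_ne_zero (Cfsg.Agent.H98.SzReal.eq_zero_of_conj_inv hm hF (lift_injective hm hF hc))
  have hx4 : x * x * (x * x) = 1 := by
    rw [hx, lift_u, u_sq, u_sq, u_eq_one_iff]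
    simp
  have hx1 : x ≠ 1 := by
    intro h
    rw [h, one_mul] at hxx
    exact hxx rfl
  have hxxt : tr (x * x) = 0 := by
    rw [hx, lift_u, u_sq]
    exact tr_u _ _ _
  have h1t : tr (1 : ↥(Cfsg.Lie.Sz F (2 ^ (m + 1)))) = 0 := by
    rw [← hx4, hx, lift_u, u_sq, u_sq]
    exact tr_u _ _ _
  have sq_conj : ∀ {a b : ↥(Cfsg.Lie.Sz F (2 ^ (m + 1)))}, IsConj a b → a * a = 1 → b * b = 1 := by
    intro a b h h1
    obtain ⟨c, rfl⟩ := isConj_iff.1 h
    have : c * a * c⁻¹ * (c * a * c⁻¹) = c * (a * a) * c⁻¹ := by group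
    rw [this, h1]
    group
  have hxi : x⁻¹ * x⁻¹ ≠ 1 := by
    intro h
    apply hxx
    have : x * x = (x⁻¹ * x⁻¹)⁻¹ := by rw [mul_inv_rev, inv_inv]
    rw [this, h, inv_one]
  have one_conj : ∀ {a : ↥(Cfsg.Lie.Sz F (2 ^ (m + 1)))}, IsConj 1 a → a = 1 := by
    intro a h
    obtain ⟨c, hc⟩ := isConj_iff.1 h
    rw [← hc]; group
  let y : Fin 4 → ↥(Cfsg.Lie.Sz F (2 ^ (m + 1))) := ![1, x * x, x, x⁻¹]
  have hyt : ∀ i, tr (y i) = 0 := by
    intro i
    fin_cases i
    · exact h1t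
    · exact hxxt
    · exact hxt
    · exact hxit
  have hy : ∀ i j, IsConj (y i) (y j) → i = j := by
    have key : ∀ i j : Fin 4, i < j → ¬ IsConj (y i) (y j) := by
      intro i j hij h
      fin_cases i <;> fin_cases j <;> try exact absurd hij (by decide)
      · exact hxx (one_conj h)
      · exact hx1 (one_conj h)
      · exact hx1 (inv_eq_one.1 (one_conj h))
      · exact hxx (sq_conj h hx4)
      · exact hxi (sq_conj h hx4)
      · exact hnc h
    intro i j h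
    rcases lt_trichotomy i j with h1 | h1 | h1
    · exact (key i j h1 h).elim
    · exact h1
    · exact (key j i h1 h.symm).elim
  have h0 := card_le_of_inj (G := ↥(Cfsg.Lie.Sz F (2 ^ (m + 1)))) (ι := Fin 4 ⊕ Fˣ)
    (Sum.elim y (fun k => H.u 0 1 * H.w * H.d k)) (by
      rintro (i | k) (j | l) h
      · exact congrArg Sum.inl (hy i j h)
      · exfalso
        have h1 := tr_of_isConj h
        simp only [Sum.elim_inl, Sum.elim_inr] at h1
        rw [hyt, tr_1wd] at h1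
        exact l.ne_zero h1.symm
      · exfalso
        have h1 := tr_of_isConj h
        simp only [Sum.elim_inl, Sum.elim_inr] at h1
        rw [hyt, tr_1wd] at h1
        exact k.ne_zero h1
      · have h1 := tr_of_isConj h
        simp only [Sum.elim_inr] at h1
        rw [tr_1wd, tr_1wd] at h1
        exact congrArg Sum.inr (Units.ext h1))
  have hq : 0 < 2 ^ (2 * m + 1) := by positivity
  have hu : Nat.card Fˣ = 2 ^ (2 * m + 1) - 1 := by
    rw [Nat.card_eq_fintype_card, Fintype.card_units, hF]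
  have h2 : Nat.card (Fin 4 ⊕ Fˣ) = 2 ^ (2 * m + 1) + 3 := by
    rw [Nat.card_sum, hu, Nat.card_eq_fintype_card, Fintype.card_fin]
    omega
  rw [← h2]
  exact h0

/-- `k(Sz(q)) ≥ q + 3` -/
theorem sz (hm : 2 ≤ m) (hF : Fintype.card F = 2 ^ (2 * m + 1)) :
    12 ≤ Nat.card (ConjClasses ↥(Cfsg.Lie.Sz F (2 ^ (m + 1)))) := by
  have h := q_add_le (by omega) hF
  have h1 : 2 ^ (2 * 2 + 1) ≤ 2 ^ (2 * m + 1) := Nat.pow_le_pow_right (by norm_num) (by omega)
  norm_num at h1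
  omega

theorem sz_eight (hF : Fintype.card F = 8) :
    11 ≤ Nat.card (ConjClasses ↥(Cfsg.Lie.Sz F 4)) :=
  q_add_le (m := 1) le_rfl (by rw [hF]; norm_num)

end Cfsg.Agent.H870.KSz
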