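import Cfsg.Agent.H690.Spor.RankThree
import Cfsg.Agent.H33.IM

/-!
# Ito-Michler from rank 3 permutation characters (helper870)

`im_of_odd` : `p` divides `(1 + k + l) * k * l` to an odd power (and the two degrees differ).
`im_two` : `k + l` odd, `p = 2`.
`im_of_degrees` : the degrees are determined by arithmetic.
-/

set_option autoImplicit false

namespace Cfsg.Agent.H870.IMR3

open Cfsg Cfsg.Agent.H33 Cfsg.Agent.H690.Spor.RankThree

universe u v

variable {G : Type u} {X : Type v} [Group G] [MulAction G X] [Finite G] {R : X → X → Prop} {k l : ℕ}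

/-- all primes dividing one of the two degrees -/
theorem im_of_degrees (h : R3 G X R k l) {p : ℕ}
    (hp : ∀ f g D : ℕ, f + g = k + l → f * g * D = (1 + k + l) * k * l → (f ≠ g → IsSquare D) → p ∣ f ∨ p ∣ g) :
    IM p G := by
  classical
  have hX : Finite X := by
    apply Nat.finite_of_card_ne_zero
    rw [h.cardn]
    omega
  have := Fintype.ofFinite X
  obtain ⟨χ₁, χ₂, f, g, D, h1, h2, -, h3, h4, h5⟩ := h.frame
  rcases hp f g D h3 h4 h5 with h6 | h6
  · exact IM.of_apply_one χ₁.2 h1 h6
  · exact IM.of_apply_one χ₂.2 h2 h6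

/-- `p = 2`, the number of the points is even -/
theorem im_two (h : R3 G X R k l) (ho : Odd (k + l)) : IM 2 G := by
  refine im_of_degrees h fun f g D h1 _ _ => ?_
  obtain ⟨m, hm⟩ := ho
  omega

/-- odd valuations -/
theorem im_of_odd (h : R3 G X R k l) {p : ℕ} [Fact p.Prime]
    (hne : ∀ f D : ℕ, f + f = k + l → f * f * D ≠ (1 + k + l) * k * l)
    (hv : Odd (((1 + k + l) * k * l).factorization p)) : IM p G := by
  refine im_of_degrees h fun f g D h1 h2 h3 => ?_
  by_contra hcon
  push Not at hcon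
  have hfg : f ≠ g := by
    rintro rfl
    exact hne f D h1 h2
  obtain ⟨d, rfl⟩ := h3 hfg
  have hf0 : f ≠ 0 := by rintro rfl; exact hcon.1 (dvd_zero p)
  have hg0 : g ≠ 0 := by rintro rfl; exact hcon.2 (dvd_zero p)
  have hn0 : (1 + k + l) * k * l ≠ 0 := by
    have := h.k0
    have := h.l0
    positivity
  have hd0 : d ≠ 0 := by
    rintro rfl
    rw [mul_zero, mul_zero] at h2
    exact hn0 h2.symm
  rw [← h2, Nat.factorization_mul (mul_ne_zero hf0 hg0) (mul_ne_zero hd0 hd0),
    Nat.factorization_mul hf0 hg0, Nat.factorization_mul hd0 hd0] at hv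
  simp only [Finsupp.add_apply] at hv
  rw [Nat.factorization_eq_zero_of_not_dvd hcon.1, Nat.factorization_eq_zero_of_not_dvd hcon.2, zero_add,
    zero_add] at hv
  exact (Nat.not_odd_iff_even.2 ⟨_, rfl⟩) hv

/-- the degrees differ if their sum is odd -/
theorem ne_of_odd {k l N : ℕ} (ho : Odd (k + l)) : ∀ f D : ℕ, f + f = k + l → f * f * D ≠ N := by
  intro f D h
  obtain ⟨m, hm⟩ := ho
  omega

end Cfsg.Agent.H870.IMR3
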