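import Cfsg.Agent.H92.KTools
import Cfsg.Agent.OddOrderLocal.CyclicSub
import Cfsg.Agent.S1158
import Cfsg.Agent.S1159

/-!
# The small Ree groups have at least 12 conjugacy classes

`count_ge` : classes meeting a cyclic subgroup `A` all of whose non-trivial subgroups have the same
normaliser as `A`, together with some element orders.
-/

set_option autoImplicit false

namespace Cfsg.Agent.H870.KRee

open Cfsg.Agent.H92.KTools

theorem count_ge {G : Type*} [Group G] [Finite G] (A : Subgroup G) (hA : IsCyclic A)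
    (hN : ∀ A₀ : Subgroup G, A₀ ≤ A → A₀ ≠ ⊥ →
      Subgroup.normalizer (A₀ : Set G) = Subgroup.normalizer (A : Set G))
    {e : ℕ} (he : Nat.card (Subgroup.normalizer (A : Set G)) = e * Nat.card A)
    (s : Finset ℕ) (hs : ∀ n ∈ s, HasOrd G n) (hd : ∀ n ∈ s, n ∣ Nat.card A → n = 1) :
    s.card + (Nat.card A - 1) / e ≤ Nat.card (ConjClasses G) := by
  classical
  have : Finite (ConjClasses G) := Quotient.finite _
  have := Fintype.ofFinite (ConjClasses G)
  have := Fintype.ofFinite {x : A // x ≠ 1}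
  set N := Subgroup.normalizer (A : Set G) with hNdef
  have hAN : A ≤ N := Subgroup.le_normalizer
  have hq : Nat.card (N ⧸ A.subgroupOf N) = e := by
    have h1 := Subgroup.card_eq_card_quotient_mul_card_subgroup (A.subgroupOf N)
    rw [he, Nat.card_congr (Subgroup.subgroupOfEquivOfLe hAN).toEquiv] at h1
    exact (Nat.eq_of_mul_eq_mul_right Nat.card_pos h1).symm
  have := Fintype.ofFinite (N ⧸ A.subgroupOf N)
  have hcomm : ∀ x ∈ A, ∀ y ∈ A, x * y = y * x := by
    intro x hx y hy
    obtain ⟨g, hg⟩ := hA.exists_generator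
    obtain ⟨a, ha⟩ := Subgroup.mem_zpowers_iff.1 (hg ⟨x, hx⟩)
    obtain ⟨b, hb⟩ := Subgroup.mem_zpowers_iff.1 (hg ⟨y, hy⟩)
    have h1 : (⟨x, hx⟩ : A) * ⟨y, hy⟩ = ⟨y, hy⟩ * ⟨x, hx⟩ := by
      rw [← ha, ← hb, ← zpow_add, ← zpow_add, add_comm]
    exact congrArg Subtype.val h1
  let f : {x : A // x ≠ 1} → ConjClasses G := fun x => ConjClasses.mk ((x : A) : G)
  -- fusion is controlled by `N`
  have fus : ∀ x y : {x : A // x ≠ 1}, f x = f y → ∃ n ∈ N, n * ((x : A) : G) * n⁻¹ = ((y : A) : G) := by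
    intro x y hxy
    obtain ⟨g, hg⟩ := isConj_iff.1 (ConjClasses.mk_eq_mk_iff_isConj.1 hxy)
    refine ⟨g, ?_, hg⟩
    have h1 : Subgroup.zpowers ((x : A) : G) ≤ A := by
      rw [Subgroup.zpowers_le]; exact (x : A).2
    have hne : Subgroup.zpowers ((x : A) : G) ≠ ⊥ := by
      rw [Ne, Subgroup.zpowers_eq_bot]
      intro h
      exact x.2 (Subtype.ext h)
    rw [← hN _ h1 hne]
    have h1' : Subgroup.zpowers ((y : A) : G) ≤ A := by
      rw [Subgroup.zpowers_le]; exact (y : A).2
    have h3 : Subgroup.zpowers ((x : A) : G) = Subgroup.zpowers ((y : A) : G) := by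
      apply Cfsg.Agent.OddOrderLocal.CyclicSub.eq_of_card_eq_of_le_cyclic hA h1 h1'
      rw [Nat.card_zpowers, Nat.card_zpowers, ← hg]
      exact (MulAut.conj g).orderOf_eq ((x : A) : G) |>.symm
    have h4 : (Subgroup.zpowers ((x : A) : G)).map (MulAut.conj g).toMonoidHom =
        Subgroup.zpowers ((x : A) : G) := by
      rw [MonoidHom.map_zpowers]
      show Subgroup.zpowers (g * ((x : A) : G) * g⁻¹) = _
      rw [hg, h3]
    rw [Subgroup.mem_normalizer_iff]
    intro h
    constructor
    · intro hh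
      rw [← h4]
      exact ⟨h, hh, rfl⟩
    · intro hh
      rw [← h4] at hh
      obtain ⟨k, hk, hk'⟩ := hh
      have : k = h := (MulAut.conj g).injective hk'
      rwa [← this]
  have hfib : ∀ c ∈ (Finset.univ : Finset {x : A // x ≠ 1}).image f,
      ((Finset.univ : Finset {x : A // x ≠ 1}).filter (fun x => f x = c)).card ≤ e := by
    intro c hc
    obtain ⟨x, -, rfl⟩ := Finset.mem_image.1 hc
    rw [← hq, Nat.card_eq_fintype_card, ← Finset.card_univ]
    have h1 : ∀ y ∈ (Finset.univ : Finset {x : A // x ≠ 1}).filter (fun y => f y = f x),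
        ∃ n ∈ N, n * ((x : A) : G) * n⁻¹ = ((y : A) : G) := by
      intro y hy
      exact fus x y (Finset.mem_filter.1 hy).2.symm
    choose! n hn hn' using h1
    refine Finset.card_le_card_of_injOn
      (fun y => if h : n y ∈ N then ((⟨n y, h⟩ : N) : N ⧸ A.subgroupOf N) else 1)
      (fun _ _ => Finset.mem_coe.2 (Finset.mem_univ _)) ?_
    intro y hy z hz hyz
    have hy' := hn y hy
    have hz' := hn z hz
    simp only [dif_pos hy', dif_pos hz'] at hyz
    rw [QuotientGroup.eq] at hyz
    have h2 : (n y)⁻¹ * n z ∈ A := hyz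
    have h3 := hcomm _ h2 _ (x : A).2
    apply Subtype.ext
    apply Subtype.ext
    rw [← hn' y hy, ← hn' z hz]
    calc n y * ((x : A) : G) * (n y)⁻¹ = n y * (((x : A) : G) * ((n y)⁻¹ * n z)) * (n z)⁻¹ := by group
      _ = n y * (((n y)⁻¹ * n z) * ((x : A) : G)) * (n z)⁻¹ := by rw [h3]
      _ = _ := by group
  have hcard := Finset.card_le_mul_card_image (f := f) (Finset.univ : Finset {x : A // x ≠ 1}) e hfib
  have hcA : (Finset.univ : Finset {x : A // x ≠ 1}).card = Nat.card A - 1 := by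
    rw [Finset.card_univ, ← Nat.card_eq_fintype_card]
    have := Fintype.ofFinite A
    rw [Nat.card_eq_fintype_card, Nat.card_eq_fintype_card, Fintype.card_subtype_compl,
      Fintype.card_subtype_eq]
  rw [hcA] at hcard
  choose! g hg using hs
  have hdisj : Disjoint ((Finset.univ : Finset {x : A // x ≠ 1}).image f)
      (s.image (fun n => ConjClasses.mk (g n))) := by
    rw [Finset.disjoint_left]
    intro c hc hc'
    obtain ⟨x, -, rfl⟩ := Finset.mem_image.1 hc
    obtain ⟨k, hk, hkx⟩ := Finset.mem_image.1 hc'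
    have h1 := orderOf_eq_of_isConj (ConjClasses.mk_eq_mk_iff_isConj.1 hkx)
    rw [hg k hk] at h1
    have h2 : orderOf ((x : A) : G) ∣ Nat.card A := by
      rw [Subgroup.orderOf_coe]
      exact orderOf_dvd_natCard _
    have h3 := hd k hk (by rw [h1]; exact h2)
    rw [h3, eq_comm, orderOf_eq_one_iff] at h1
    exact x.2 (Subtype.ext h1)
  have hsc : (s.image (fun n => ConjClasses.mk (g n))).card = s.card := by
    apply Finset.card_image_of_injOn
    intro a ha b hb hab
    have h1 := orderOf_eq_of_isConj (ConjClasses.mk_eq_mk_iff_isConj.1 hab)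
    rwa [hg a ha, hg b hb] at h1
  have h5 := Finset.card_le_univ (((Finset.univ : Finset {x : A // x ≠ 1}).image f) ∪
    (s.image (fun n => ConjClasses.mk (g n))))
  rw [Finset.card_union_of_disjoint hdisj, hsc, ← Nat.card_eq_fintype_card] at h5
  have h6 : (Nat.card A - 1) / e ≤ ((Finset.univ : Finset {x : A // x ≠ 1}).image f).card :=
    Nat.div_le_of_le_mul hcard
  omega

theorem ree {F : Type*} [Field F] [Fintype F] {m : ℕ} (hm : 1 ≤ m)
    (hF : Fintype.card F = 3 ^ (2 * m + 1)) :
    12 ≤ Nat.card (ConjClasses ↥(Lie.twistedG2 F (3 ^ m))) := by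
  have hfin : Finite ↥(Cfsg.Lie.twistedG2 F (3 ^ m)) := by
    apply Nat.finite_of_card_ne_zero
    rw [Cfsg.Agent.LieRecognition.ReeFinal.card hF]
    have h1 : 0 < 3 ^ (2 * m + 1) := by positivity
    have h2 : 0 < 3 ^ (2 * m + 1) - 1 := by
      have : 3 ^ 1 ≤ 3 ^ (2 * m + 1) := Nat.pow_le_pow_right (by norm_num) (by omega)
      omega
    positivity
  obtain ⟨A, hA, hcA, hcN, hN⟩ := Cfsg.Agent.S1158.result hm hF
    (3 ^ (2 * m + 1) + 3 ^ (m + 1) + 1, 6 * (3 ^ (2 * m + 1) + 3 ^ (m + 1) + 1)) (by simp)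
  simp only at hcA hcN
  have hq : 27 ≤ 3 ^ (2 * m + 1) := by
    have := Nat.pow_le_pow_right (n := 3) (by norm_num) (show 3 ≤ 2 * m + 1 by omega)
    norm_num at this
    exact this
  have hr : 9 ≤ 3 ^ (m + 1) := by
    have := Nat.pow_le_pow_right (n := 3) (by norm_num) (show 2 ≤ m + 1 by omega)
    norm_num at this
    exact this
  have hqr : 3 * 3 ^ (2 * m + 1) = 3 ^ (m + 1) * 3 ^ (m + 1) := by
    rw [← pow_add, ← pow_succ']
    congr 1
    ring
  have hodd : 3 ^ (2 * m + 1) % 2 = 1 := by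
    rw [Nat.pow_mod]; simp
  have hoddr : 3 ^ (m + 1) % 2 = 1 := by
    rw [Nat.pow_mod]; simp
  have hq3 : 3 ∣ 3 ^ (2 * m + 1) := dvd_pow_self 3 (by omega)
  have hr3 : 3 ∣ 3 ^ (m + 1) := dvd_pow_self 3 (by omega)
  have ho := fun d => Cfsg.Agent.S1159.result hm hF d
  have hs : ∀ n ∈ ({1, 2, 3, 6, 9, (3 ^ (2 * m + 1) - 1) / 2} : Finset ℕ),
      HasOrd ↥(Cfsg.Lie.twistedG2 F (3 ^ m)) n := by
    intro n hn
    refine (ho n).2 ?_
    simp only [Finset.mem_insert, Finset.mem_singleton] at hn
    rcases hn with rfl | rfl | rfl | rfl | rfl | rfl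
    · exact Or.inl (by norm_num)
    · exact Or.inl (by norm_num)
    · exact Or.inl (by norm_num)
    · exact Or.inl (by norm_num)
    · exact Or.inr (Or.inl (by norm_num))
    · right; right; left
      exact Nat.div_dvd_of_dvd (by omega)
  have h := count_ge A hA hN (e := 6) (by rw [hcA, hcN]) _ hs ?_
  · rw [hcA] at h
    have hcs : ({1, 2, 3, 6, 9, (3 ^ (2 * m + 1) - 1) / 2} : Finset ℕ).card = 6 := by
      rw [Finset.card_insert_of_notMem, Finset.card_insert_of_notMem,
        Finset.card_insert_of_notMem, Finset.card_insert_of_notMem,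
        Finset.card_insert_of_notMem, Finset.card_singleton] <;>
      · simp only [Finset.mem_insert, Finset.mem_singleton, not_or]
        omega
    rw [hcs] at h
    omega
  · intro n hn hd
    rw [hcA] at hd
    simp only [Finset.mem_insert, Finset.mem_singleton] at hn
    generalize 3 ^ (2 * m + 1) = q at *
    generalize 3 ^ (m + 1) = r at *
    rcases hn with rfl | rfl | rfl | rfl | rfl | rfl
    · rfl
    · omega
    · omega
    · omega
    · omega
    · exfalso
      obtain ⟨k, hk⟩ : ∃ k, q = 2 * k + 1 := ⟨q / 2, by omega⟩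
      have hk' : (q - 1) / 2 = k := by omega
      rw [hk'] at hd
      have h1 : k ∣ r + 2 := by
        have e1 : q + r + 1 = 2 * k + (r + 2) := by omega
        rw [e1] at hd
        exact (Nat.dvd_add_right (Dvd.intro_left 2 rfl)).1 hd
      have h2 : (k : ℤ) ∣ 1 := by
        have e1 : (k : ℤ) ∣ (r : ℤ) + 2 := by exact_mod_cast h1
        have e2 : (k : ℤ) ∣ ((r : ℤ) + 2) * (r - 2) := Dvd.dvd.mul_right e1 _
        have e3 : 3 * (q : ℤ) = r * r := by exact_mod_cast hqr
        have e4 : ((r : ℤ) + 2) * (r - 2) = 6 * k - 1 := by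
          have : (q : ℤ) = 2 * k + 1 := by exact_mod_cast hk
          rw [this] at e3
          linear_combination -e3
        rw [e4] at e2
        have e5 : (k : ℤ) ∣ 6 * k := Dvd.intro_left 6 rfl
        have e6 := dvd_sub e5 e2
        have e7 : (6 * (k : ℤ) - (6 * k - 1)) = 1 := by ring
        rwa [e7] at e6
      have h3 : k ∣ 1 := by exact_mod_cast h2
      have h4 := Nat.le_of_dvd one_pos h3
      omega

end Cfsg.Agent.H870.KRee
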