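import Mathlib
import Cfsg.Agent.H870.Plane

/-!
# Hyperovals of projective planes of order 4

`exists_oval` : four points of a plane of order 4, no three on a line, lie in a hyperoval;
`exists_four` : there are such points.
-/

set_option autoImplicit false
set_option linter.unusedSectionVars false

namespace Cfsg.Agent.H870.Oval

open Finset Cfsg.Agent.SporadicA.SteinerMask Cfsg.Agent.SporadicA.SteinerCount
  Cfsg.Agent.H870.Plane

variable {α : Type*} [Fintype α] [DecidableEq α] {L : Set (Finset α)}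

/-- two points of a small intersection -/
theorem two_le_card {s : Finset α} {x y : α} (hxy : x ≠ y) (hx : x ∈ s) (hy : y ∈ s) :
    2 ≤ s.card := by
  rw [← card_pair hxy]
  apply card_le_card
  intro w hw
  rw [mem_insert, mem_singleton] at hw
  rcases hw with rfl | rfl
  · exact hx
  · exact hy

theorem three_le_card {s : Finset α} {x y z : α} (hxy : x ≠ y) (hxz : x ≠ z) (hyz : y ≠ z)
    (hx : x ∈ s) (hy : y ∈ s) (hz : z ∈ s) : 3 ≤ s.card := by
  have h5 : ({x, y, z} : Finset α).card = 3 := by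
    rw [card_eq_three]
    exact ⟨_, _, _, hxy, hxz, hyz, rfl⟩
  rw [← h5]
  apply card_le_card
  intro w hw
  simp only [mem_insert, mem_singleton] at hw
  rcases hw with rfl | rfl | rfl
  · exact hx
  · exact hy
  · exact hz

/-- at most nineteen points are on the sides of a quadrangle -/
theorem exists_two_free (hα : Fintype.card α = 21) (hL : Cfsg.IsSteinerSystem 2 5 L) {S : Finset α}
    (hS : S.card = 4) (hi : ∀ l ∈ L, (l ∩ S).card ≤ 2) :
    ∃ e f : α, e ≠ f ∧ (∀ l ∈ L, e ∈ l → (l ∩ S).card ≤ 1) ∧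
      (∀ l ∈ L, f ∈ l → (l ∩ S).card ≤ 1) := by
  obtain ⟨a, S', ha, rfl, hS'⟩ := card_eq_succ.1 hS
  obtain ⟨b, c, d, hbc, hbd, hcd, rfl⟩ := card_eq_three.1 hS'
  simp only [mem_insert, mem_singleton, not_or] at ha
  obtain ⟨hab, hac, had⟩ := ha
  have mem3 : ∀ l ∈ L, ∀ x y z : α, x ≠ y → x ≠ z → y ≠ z → x ∈ ({a, b, c, d} : Finset α) →
      y ∈ ({a, b, c, d} : Finset α) → z ∈ ({a, b, c, d} : Finset α) → x ∈ l → y ∈ l → z ∉ l := by
    intro l hl x y z h1 h2 h3 h4 h5 h6 h7 h8 h9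
    have := three_le_card h1 h2 h3 (mem_inter.2 ⟨h7, h4⟩) (mem_inter.2 ⟨h8, h5⟩)
      (mem_inter.2 ⟨h9, h6⟩)
    have := hi l hl
    omega
  obtain ⟨ab, ab1, ab2, ab3⟩ := exists_line hL hab
  obtain ⟨ac, ac1, ac2, ac3⟩ := exists_line hL hac
  obtain ⟨ad, ad1, ad2, ad3⟩ := exists_line hL had
  obtain ⟨bc, bc1, bc2, bc3⟩ := exists_line hL hbc
  obtain ⟨bd, bd1, bd2, bd3⟩ := exists_line hL hbd
  obtain ⟨cd, cd1, cd2, cd3⟩ := exists_line hL hcd
  have n1 : ab ≠ cd := by
    rintro rfl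
    exact mem3 _ ab1 a b c hab hac hbc (by simp) (by simp) (by simp) ab2 ab3 cd2
  have n2 : ac ≠ bd := by
    rintro rfl
    exact mem3 _ ac1 a c b hac hab hbc.symm (by simp) (by simp) (by simp) ac2 ac3 bd2
  have n3 : ad ≠ bc := by
    rintro rfl
    exact mem3 _ ad1 a d b had hab hbd.symm (by simp) (by simp) (by simp) ad2 ad3 bc2
  have c9 : ∀ l ∈ L, ∀ m ∈ L, l ≠ m → (l ∪ m).card = 9 := by
    intro l hl m hm hlm
    have h1 := card_union_add_card_inter l m
    rw [inter_card hα hL hl hm hlm, hL.1 l hl, hL.1 m hm] at h1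
    omega
  have c5 : ∀ U V : Finset α, V.card = 9 → ({a, b, c, d} : Finset α) ⊆ U →
      ({a, b, c, d} : Finset α) ⊆ V → (U ∪ V).card ≤ U.card + 5 := by
    intro U V hV h1 h2
    have h3 := card_union_add_card_inter U V
    have h4 := card_le_card (subset_inter h1 h2)
    omega
  have s1 : ({a, b, c, d} : Finset α) ⊆ ab ∪ cd := by
    intro x hx
    simp only [mem_insert, mem_singleton] at hx
    rw [mem_union]
    rcases hx with rfl | rfl | rfl | rfl
    · exact Or.inl ab2
    · exact Or.inl ab3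
    · exact Or.inr cd2
    · exact Or.inr cd3
  have s2 : ({a, b, c, d} : Finset α) ⊆ ac ∪ bd := by
    intro x hx
    simp only [mem_insert, mem_singleton] at hx
    rw [mem_union]
    rcases hx with rfl | rfl | rfl | rfl
    · exact Or.inl ac2
    · exact Or.inr bd2
    · exact Or.inl ac3
    · exact Or.inr bd3
  have s3 : ({a, b, c, d} : Finset α) ⊆ ad ∪ bc := by
    intro x hx
    simp only [mem_insert, mem_singleton] at hx
    rw [mem_union]
    rcases hx with rfl | rfl | rfl | rfl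
    · exact Or.inl ad2
    · exact Or.inr bc2
    · exact Or.inr bc3
    · exact Or.inl ad3
  have u1 := c5 (ab ∪ cd) (ac ∪ bd) (c9 _ ac1 _ bd1 n2) s1 s2
  have u2 := c5 ((ab ∪ cd) ∪ (ac ∪ bd)) (ad ∪ bc) (c9 _ ad1 _ bc1 n3)
    (s1.trans subset_union_left) s3
  rw [c9 _ ab1 _ cd1 n1] at u1
  have u3 : 1 < (((ab ∪ cd) ∪ (ac ∪ bd)) ∪ (ad ∪ bc))ᶜ.card := by
    rw [card_compl, hα]
    omega
  obtain ⟨e, he, f, hf, hef⟩ := one_lt_card.1 u3
  have free : ∀ x, x ∈ (((ab ∪ cd) ∪ (ac ∪ bd)) ∪ (ad ∪ bc))ᶜ → ∀ l ∈ L, x ∈ l →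
      (l ∩ {a, b, c, d}).card ≤ 1 := by
    intro x hx l hl hxl
    by_contra hcon
    rw [mem_compl, mem_union, mem_union, mem_union, mem_union, mem_union] at hx
    obtain ⟨y, hy, z, hz, hyz⟩ := one_lt_card.1 (not_le.1 hcon)
    rw [mem_inter] at hy hz
    obtain ⟨hy1, hy2⟩ := hy
    obtain ⟨hz1, hz2⟩ := hz
    simp only [mem_insert, mem_singleton] at hy2 hz2
    apply hx
    rcases hy2 with rfl | rfl | rfl | rfl <;> rcases hz2 with rfl | rfl | rfl | rfl
    · exact absurd rfl hyz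
    · rw [line_eq hL ab1 hl hyz ab2 ab3 hy1 hz1]; tauto
    · rw [line_eq hL ac1 hl hyz ac2 ac3 hy1 hz1]; tauto
    · rw [line_eq hL ad1 hl hyz ad2 ad3 hy1 hz1]; tauto
    · rw [line_eq hL ab1 hl hyz ab3 ab2 hy1 hz1]; tauto
    · exact absurd rfl hyz
    · rw [line_eq hL bc1 hl hyz bc2 bc3 hy1 hz1]; tauto
    · rw [line_eq hL bd1 hl hyz bd2 bd3 hy1 hz1]; tauto
    · rw [line_eq hL ac1 hl hyz ac3 ac2 hy1 hz1]; tauto
    · rw [line_eq hL bc1 hl hyz bc3 bc2 hy1 hz1]; tauto
    · exact absurd rfl hyz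
    · rw [line_eq hL cd1 hl hyz cd2 cd3 hy1 hz1]; tauto
    · rw [line_eq hL ad1 hl hyz ad3 ad2 hy1 hz1]; tauto
    · rw [line_eq hL bd1 hl hyz bd3 bd2 hy1 hz1]; tauto
    · rw [line_eq hL cd1 hl hyz cd3 cd2 hy1 hz1]; tauto
    · exact absurd rfl hyz
  exact ⟨e, f, hef, free e he, free f hf⟩

/-- a line through two free points contains no vertex -/
theorem no_vertex (hα : Fintype.card α = 21) (hL : Cfsg.IsSteinerSystem 2 5 L) {S : Finset α}
    (hS : S.card = 4) (hi : ∀ l ∈ L, (l ∩ S).card ≤ 2) {e f : α} (hef : e ≠ f)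
    (he : ∀ l ∈ L, e ∈ l → (l ∩ S).card ≤ 1) (hf : ∀ l ∈ L, f ∈ l → (l ∩ S).card ≤ 1)
    {l : Finset α} (hl : l ∈ L) (hel : e ∈ l) (hfl : f ∈ l) : ∀ a ∈ S, a ∉ l := by
  intro a haS hal
  obtain ⟨b, c, d, hbc, hbd, hcd, hS'⟩ := card_eq_three.1
    (show (S.erase a).card = 3 by rw [card_erase_of_mem haS, hS])
  have hb : b ∈ S.erase a := by rw [hS']; simp
  have hc : c ∈ S.erase a := by rw [hS']; simp
  have hd : d ∈ S.erase a := by rw [hS']; simp
  rw [mem_erase] at hb hc hd
  have mem3 : ∀ l ∈ L, ∀ x y z : α, x ≠ y → x ≠ z → y ≠ z → x ∈ S →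
      y ∈ S → z ∈ S → x ∈ l → y ∈ l → z ∉ l := by
    intro l hl x y z h1 h2 h3 h4 h5 h6 h7 h8 h9
    have := three_le_card h1 h2 h3 (mem_inter.2 ⟨h7, h4⟩) (mem_inter.2 ⟨h8, h5⟩)
      (mem_inter.2 ⟨h9, h6⟩)
    have := hi l hl
    omega
  have hl1 : ∀ x ∈ S, x ≠ a → x ∉ l := by
    intro x hx hxa hxl
    have := two_le_card hxa (mem_inter.2 ⟨hxl, hx⟩) (mem_inter.2 ⟨hal, haS⟩)
    have := he l hl hel
    omega
  have ea : e ≠ a := by
    rintro rfl
    obtain ⟨m, hm1, hm2, hm3⟩ := exists_line hL hb.1.symm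
    have := two_le_card hb.1.symm (mem_inter.2 ⟨hm2, haS⟩) (mem_inter.2 ⟨hm3, hb.2⟩)
    have := he m hm1 hm2
    omega
  have fa : f ≠ a := by
    rintro rfl
    obtain ⟨m, hm1, hm2, hm3⟩ := exists_line hL hb.1.symm
    have := two_le_card hb.1.symm (mem_inter.2 ⟨hm2, haS⟩) (mem_inter.2 ⟨hm3, hb.2⟩)
    have := hf m hm1 hm2
    omega
  -- the point where `l` meets a side not through `a`
  have side : ∀ x y : α, x ∈ S → y ∈ S → x ≠ a → y ≠ a → x ≠ y → ∃ m ∈ L, x ∈ m ∧ y ∈ m ∧
      ∃ z, z ∈ m ∧ z ∈ l ∧ z ≠ a ∧ z ≠ e ∧ z ≠ f := by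
    intro x y hx hy hxa hya hxy
    obtain ⟨m, hm1, hm2, hm3⟩ := exists_line hL hxy
    refine ⟨m, hm1, hm2, hm3, ?_⟩
    have hne : m ≠ l := by
      rintro rfl
      exact hl1 x hx hxa hm2
    have h1 := inter_card hα hL hm1 hl hne
    obtain ⟨z, hz⟩ := card_pos.1 (by omega : 0 < (m ∩ l).card)
    rw [mem_inter] at hz
    refine ⟨z, hz.1, hz.2, ?_, ?_, ?_⟩
    · rintro rfl
      exact mem3 m hm1 x y z hxy hxa hya hx hy haS hm2 hm3 hz.1
    · rintro rfl
      have := two_le_card hxy (mem_inter.2 ⟨hm2, hx⟩) (mem_inter.2 ⟨hm3, hy⟩)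
      have := he m hm1 hz.1
      omega
    · rintro rfl
      have := two_le_card hxy (mem_inter.2 ⟨hm2, hx⟩) (mem_inter.2 ⟨hm3, hy⟩)
      have := hf m hm1 hz.1
      omega
  obtain ⟨m1, p1, p2, p3, x, x1, x2, x3, x4, x5⟩ := side b c hb.2 hc.2 hb.1 hc.1 hbc
  obtain ⟨m2, q1, q2, q3, y, y1, y2, y3, y4, y5⟩ := side b d hb.2 hd.2 hb.1 hd.1 hbd
  obtain ⟨m3, r1, r2, r3, z, z1, z2, z3, z4, z5⟩ := side c d hc.2 hd.2 hc.1 hd.1 hcd
  have xy : x ≠ y := by
    rintro rfl
    have hxb : x ≠ b := by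
      rintro rfl
      exact hl1 x hb.2 hb.1 x2
    rw [line_eq hL p1 q1 hxb x1 p2 y1 q2] at p3
    exact mem3 m2 q1 b d c hbd hbc hcd.symm hb.2 hd.2 hc.2 q2 q3 p3
  have xz : x ≠ z := by
    rintro rfl
    have hxc : x ≠ c := by
      rintro rfl
      exact hl1 x hc.2 hc.1 x2
    rw [line_eq hL p1 r1 hxc x1 p3 z1 r2] at p2
    exact mem3 m3 r1 c d b hcd hbc.symm hbd.symm hc.2 hd.2 hb.2 r2 r3 p2
  have yz : y ≠ z := by
    rintro rfl
    have hxd : y ≠ d := by
      rintro rfl
      exact hl1 y hd.2 hd.1 y2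
    rw [line_eq hL q1 r1 hxd y1 q3 z1 r3] at q2
    exact mem3 m3 r1 c d b hcd hbc.symm hbd.symm hc.2 hd.2 hb.2 r2 r3 q2
  have h6 : ({e, f, a, x, y, z} : Finset α).card = 6 := by
    rw [card_insert_of_notMem, card_insert_of_notMem, card_insert_of_notMem,
        card_insert_of_notMem, card_insert_of_notMem, card_singleton]
    all_goals simp only [mem_insert, mem_singleton, not_or]
    · exact yz
    · exact ⟨xy, xz⟩
    · exact ⟨x3.symm, y3.symm, z3.symm⟩
    · exact ⟨fa, x5.symm, y5.symm, z5.symm⟩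
    · exact ⟨hef, ea, x4.symm, y4.symm, z4.symm⟩
  have h7 : ({e, f, a, x, y, z} : Finset α) ⊆ l := by
    intro w hw
    simp only [mem_insert, mem_singleton] at hw
    rcases hw with rfl | rfl | rfl | rfl | rfl | rfl <;> assumption
  have := card_le_card h7
  rw [h6, hL.1 l hl] at this
  omega

/-- an independent 4-set lies in a hyperoval -/
theorem exists_oval (hα : Fintype.card α = 21) (hL : Cfsg.IsSteinerSystem 2 5 L) {S : Finset α}
    (hS : S.card = 4) (hi : ∀ l ∈ L, (l ∩ S).card ≤ 2) :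
    ∃ H : Finset α, (H.card = 6 ∧ ∀ l ∈ L, (l ∩ H).card ≤ 2) ∧ S ⊆ H := by
  obtain ⟨e, f, hef, he, hf⟩ := exists_two_free hα hL hS hi
  have notS : ∀ x, (∀ l ∈ L, x ∈ l → (l ∩ S).card ≤ 1) → x ∉ S := by
    intro x hx hxS
    obtain ⟨y, hy, hyx⟩ : ∃ y ∈ S, y ≠ x := exists_mem_ne (by omega) _
    obtain ⟨m, hm1, hm2, hm3⟩ := exists_line hL hyx
    have := two_le_card hyx (mem_inter.2 ⟨hm2, hy⟩) (mem_inter.2 ⟨hm3, hxS⟩)
    have := hx m hm1 hm3
    omega
  refine ⟨insert e (insert f S), ⟨?_, ?_⟩, ?_⟩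
  · rw [card_insert_of_notMem, card_insert_of_notMem (notS f hf), hS]
    rw [mem_insert, not_or]
    exact ⟨hef, notS e he⟩
  · intro l hl
    by_cases h1 : e ∈ l
    · by_cases h2 : f ∈ l
      · have h3 := no_vertex hα hL hS hi hef he hf hl h1 h2
        have : l ∩ insert e (insert f S) ⊆ {e, f} := by
          intro x hx
          rw [mem_inter, mem_insert, mem_insert] at hx
          rw [mem_insert, mem_singleton]
          rcases hx.2 with h | h | h
          · exact Or.inl h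
          · exact Or.inr h
          · exact absurd hx.1 (h3 x h)
        exact (card_le_card this).trans card_le_two
      · have : l ∩ insert e (insert f S) ⊆ insert e (l ∩ S) := by
          intro x hx
          rw [mem_inter, mem_insert, mem_insert] at hx
          rw [mem_insert, mem_inter]
          rcases hx.2 with h | h | h
          · exact Or.inl h
          · exact absurd (h ▸ hx.1) h2
          · exact Or.inr ⟨hx.1, h⟩
        have h4 := (card_le_card this).trans (card_insert_le _ _)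
        have := he l hl h1
        omega
    · by_cases h2 : f ∈ l
      · have : l ∩ insert e (insert f S) ⊆ insert f (l ∩ S) := by
          intro x hx
          rw [mem_inter, mem_insert, mem_insert] at hx
          rw [mem_insert, mem_inter]
          rcases hx.2 with h | h | h
          · exact absurd (h ▸ hx.1) h1
          · exact Or.inl h
          · exact Or.inr ⟨hx.1, h⟩
        have h4 := (card_le_card this).trans (card_insert_le _ _)
        have := hf l hl h2
        omega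
      · have : l ∩ insert e (insert f S) ⊆ l ∩ S := by
          intro x hx
          rw [mem_inter, mem_insert, mem_insert] at hx
          rw [mem_inter]
          rcases hx.2 with h | h | h
          · exact absurd (h ▸ hx.1) h1
          · exact absurd (h ▸ hx.1) h2
          · exact ⟨hx.1, h⟩
        exact (card_le_card this).trans (hi l hl)
  · intro x hx
    rw [mem_insert, mem_insert]
    exact Or.inr (Or.inr hx)

/-- there are independent 4-sets -/
theorem exists_four (hα : Fintype.card α = 21) (hL : Cfsg.IsSteinerSystem 2 5 L) :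
    ∃ S : Finset α, S.card = 4 ∧ ∀ l ∈ L, (l ∩ S).card ≤ 2 := by
  obtain ⟨x, y, hxy⟩ : ∃ x y : α, x ≠ y := by
    have : Nontrivial α := Fintype.one_lt_card_iff_nontrivial.1 (by omega)
    exact exists_pair_ne α
  obtain ⟨l, hl, -, -⟩ := exists_line hL hxy
  have h16 : 0 < lᶜ.card := by
    rw [card_compl, hα, hL.1 l hl]
    norm_num
  obtain ⟨c, hc⟩ := card_pos.1 h16
  rw [mem_compl] at hc
  obtain ⟨p, hp⟩ : l.Nonempty := card_pos.1 (by rw [hL.1 l hl]; norm_num)
  have hpc : p ≠ c := by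
    rintro rfl
    exact hc hp
  obtain ⟨m, hm, hm1, hm2⟩ := exists_line hL hpc
  have hlm : l ≠ m := by
    rintro rfl
    exact hc hm2
  obtain ⟨a, b, hab, hS1⟩ : ∃ a b, a ≠ b ∧ {a, b} ⊆ l.erase p := by
    obtain ⟨t, ht, ht2⟩ := exists_subset_card_eq (s := l.erase p) (n := 2)
      (by rw [card_erase_of_mem hp, hL.1 l hl]; norm_num)
    obtain ⟨a, b, hab, rfl⟩ := card_eq_two.1 ht2
    exact ⟨a, b, hab, ht⟩
  obtain ⟨c', d, hcd, hS2⟩ : ∃ a b, a ≠ b ∧ {a, b} ⊆ m.erase p := by
    obtain ⟨t, ht, ht2⟩ := exists_subset_card_eq (s := m.erase p) (n := 2)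
      (by rw [card_erase_of_mem hm1, hL.1 m hm]; norm_num)
    obtain ⟨a, b, hab, rfl⟩ := card_eq_two.1 ht2
    exact ⟨a, b, hab, ht⟩
  have ha := hS1 (mem_insert_self a {b})
  have hb := hS1 (mem_insert_of_mem (mem_singleton_self b))
  have hc' := hS2 (mem_insert_self c' {d})
  have hd := hS2 (mem_insert_of_mem (mem_singleton_self d))
  rw [mem_erase] at ha hb hc' hd
  have hlp : ∀ w, w ∈ l → w ∈ m → w = p := by
    intro w h1 h2
    by_contra hwp
    exact hlm (line_eq hL hl hm hwp h1 hp h2 hm1)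
  have hac : a ≠ c' := by
    rintro rfl
    exact ha.1 (hlp a ha.2 hc'.2)
  have had : a ≠ d := by
    rintro rfl
    exact ha.1 (hlp a ha.2 hd.2)
  have hbc : b ≠ c' := by
    rintro rfl
    exact hb.1 (hlp b hb.2 hc'.2)
  have hbd : b ≠ d := by
    rintro rfl
    exact hb.1 (hlp b hb.2 hd.2)
  refine ⟨{a, b, c', d}, ?_, ?_⟩
  · rw [card_insert_of_notMem, card_insert_of_notMem, card_insert_of_notMem, card_singleton]
    all_goals simp only [mem_insert, mem_singleton, not_or]
    · exact hcd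
    · exact ⟨hbc, hbd⟩
    · exact ⟨hab, hac, had⟩
  · intro k hk
    by_cases h1 : a ∈ k ∧ b ∈ k
    · have hkl := line_eq hL hk hl hab h1.1 h1.2 ha.2 hb.2
      have : k ∩ {a, b, c', d} ⊆ {a, b} := by
        intro w hw
        rw [hkl] at hw
        simp only [mem_inter, mem_insert, mem_singleton] at hw ⊢
        obtain ⟨hw1, rfl | rfl | rfl | rfl⟩ := hw
        · exact Or.inl rfl
        · exact Or.inr rfl
        · exact absurd (hlp _ hw1 hc'.2) hc'.1
        · exact absurd (hlp _ hw1 hd.2) hd.1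
      exact (card_le_card this).trans card_le_two
    by_cases h2 : c' ∈ k ∧ d ∈ k
    · have hkm := line_eq hL hk hm hcd h2.1 h2.2 hc'.2 hd.2
      have : k ∩ {a, b, c', d} ⊆ {c', d} := by
        intro w hw
        rw [hkm] at hw
        simp only [mem_inter, mem_insert, mem_singleton] at hw ⊢
        obtain ⟨hw1, rfl | rfl | rfl | rfl⟩ := hw
        · exact absurd (hlp _ ha.2 hw1) ha.1
        · exact absurd (hlp _ hb.2 hw1) hb.1
        · exact Or.inl rfl
        · exact Or.inr rfl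
      exact (card_le_card this).trans card_le_two
    · have e1 : (k ∩ {a, b}).card ≤ 1 := by
        by_contra hcon
        push Not at hcon
        have h3 : k ∩ {a, b} = {a, b} :=
          eq_of_subset_of_card_le inter_subset_right (by rw [card_pair hab]; omega)
        have h4 : ({a, b} : Finset α) ⊆ k := by rw [← h3]; exact inter_subset_left
        exact h1 ⟨h4 (by simp), h4 (by simp)⟩
      have e2 : (k ∩ {c', d}).card ≤ 1 := by
        by_contra hcon
        push Not at hcon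
        have h3 : k ∩ {c', d} = {c', d} :=
          eq_of_subset_of_card_le inter_subset_right (by rw [card_pair hcd]; omega)
        have h4 : ({c', d} : Finset α) ⊆ k := by rw [← h3]; exact inter_subset_left
        exact h2 ⟨h4 (by simp), h4 (by simp)⟩
      have e3 : k ∩ {a, b, c', d} = (k ∩ {a, b}) ∪ (k ∩ {c', d}) := by
        rw [← inter_union_distrib_left]
        congr 1
        ext w
        simp only [mem_insert, mem_singleton, mem_union]
        tauto
      rw [e3]
      have := card_union_le (k ∩ {a, b}) (k ∩ {c', d})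
      omega

/-- naming the points of a hyperoval -/
theorem exists_name {H : Finset α} (hH : H.card = 6) :
    ∃ h : Fin 6 → α, Function.Injective h ∧ Finset.univ.image h = H := by
  refine ⟨fun i => ((H.equivFinOfCardEq hH).symm i : α),
    Subtype.val_injective.comp (H.equivFinOfCardEq hH).symm.injective, ?_⟩
  ext x
  simp only [mem_image, mem_univ, true_and]
  constructor
  · rintro ⟨i, rfl⟩
    exact ((H.equivFinOfCardEq hH).symm i).2
  · intro hx
    exact ⟨H.equivFinOfCardEq hH ⟨x, hx⟩, by rw [Equiv.symm_apply_apply]⟩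

/-- every plane of order 4 has a standard labelling -/
theorem exists_standard (hα : Fintype.card α = 21) (hL : Cfsg.IsSteinerSystem 2 5 L) :
    ∃ e : Fin 21 ≃ α, ∀ s : Finset (Fin 21), s.map e.toEmbedding ∈ L ↔ mask s ∈ Ls := by
  obtain ⟨S, hS, hi⟩ := exists_four hα hL
  obtain ⟨H, ⟨hH, hHi⟩, -⟩ := exists_oval hα hL hS hi
  obtain ⟨h, hh, rfl⟩ := exists_name hH
  obtain ⟨e, -, he⟩ := exists_standard_label hα (frame_of_oval hα hL hh hHi)
  exact ⟨e, he⟩

end Cfsg.Agent.H870.Oval
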