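import Cfsg.Agent.H870.U4Main
import Cfsg.Agent.OddOrderLocal.PLengthOne
import Cfsg.Agent.S1313

/-!
# From the hypotheses of the statements to `Two z φ₁ φ₂` (type `U₄(3)`)
-/

set_option autoImplicit false

namespace Cfsg.Agent.H870.U4Setup

open Cfsg.Agent.H870.STwoThree Cfsg.Agent.Co2Type.Quad Cfsg.Agent.LargeExtra.W2
  Cfsg.Agent.H870.U4Two Cfsg.Agent.LargeExtra.Base Cfsg.Agent.LargeExtra.W2.U43
  Cfsg.Agent.H870.U4Index

variable {G : Type*} [Group G]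

theorem comm_of {z a n : G} (hz : z * z = 1) (hz1 : z ≠ 1) (ha : a * z = z * a)
    (h3 : a ^ 3 = 1) (h : a * n * a⁻¹ * n⁻¹ = 1 ∨ a * n * a⁻¹ * n⁻¹ = z) : a * n = n * a := by
  rcases h with h | h
  · calc a * n = (a * n * a⁻¹ * n⁻¹) * (n * a) := by group
      _ = n * a := by rw [h, one_mul]
  · exfalso
    apply hz1
    have h1 : a * n * a⁻¹ = z * n := by
      calc a * n * a⁻¹ = (a * n * a⁻¹ * n⁻¹) * n := by group
        _ = z * n := by rw [h]
    have h2 : a * a * n * (a * a)⁻¹ = n := by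
      calc a * a * n * (a * a)⁻¹ = a * (a * n * a⁻¹) * a⁻¹ := by group
        _ = a * (z * n) * a⁻¹ := by rw [h1]
        _ = (a * z) * n * a⁻¹ := by group
        _ = (z * a) * n * a⁻¹ := by rw [ha]
        _ = z * (a * n * a⁻¹) := by group
        _ = z * z * n := by rw [h1]; group
        _ = n := by rw [hz, one_mul]
    have h4 : a * a * a * n * (a * a * a)⁻¹ = z * n := by
      calc a * a * a * n * (a * a * a)⁻¹ = a * (a * a * n * (a * a)⁻¹) * a⁻¹ := by group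
        _ = z * n := by rw [h2, h1]
    have h5 : a * a * a = 1 := by rw [← h3, pow_succ, pow_two]
    rw [h5] at h4
    have h6 : n = z * n := by rw [← h4]; group
    calc z = z * n * n⁻¹ := by group
      _ = n * n⁻¹ := by rw [← h6]
      _ = 1 := mul_inv_cancel n

section

variable {z : G} {H₁ H₂ : Subgroup (Subgroup.centralizer ({z} : Set G))}

/-- a copy of SL(2,3) in `G` -/
def phi (H : Subgroup (Subgroup.centralizer ({z} : Set G)))
    (e : H ≃* Matrix.SpecialLinearGroup (Fin 2) (ZMod 3)) : S23 →* G :=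
  (Subgroup.subtype (Subgroup.centralizer ({z} : Set G))).comp
    ((Subgroup.subtype H).comp e.symm.toMonoidHom)

theorem phi_inj (H : Subgroup (Subgroup.centralizer ({z} : Set G)))
    (e : H ≃* Matrix.SpecialLinearGroup (Fin 2) (ZMod 3)) : Function.Injective (phi H e) := by
  intro M N h
  have h1 : ((e.symm M : H) : Subgroup.centralizer ({z} : Set G)) = (e.symm N : H) :=
    Subtype.ext h
  exact e.symm.injective (Subtype.ext h1)

theorem phi_apply (H : Subgroup (Subgroup.centralizer ({z} : Set G)))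
    (e : H ≃* Matrix.SpecialLinearGroup (Fin 2) (ZMod 3)) (M : S23) :
    phi H e M = (((e.symm M : H) : Subgroup.centralizer ({z} : Set G)) : G) := rfl

theorem phi_surj (H : Subgroup (Subgroup.centralizer ({z} : Set G)))
    (e : H ≃* Matrix.SpecialLinearGroup (Fin 2) (ZMod 3))
    {c : Subgroup.centralizer ({z} : Set G)} (hc : c ∈ H) : ∃ M, phi H e M = (c : G) :=
  ⟨e ⟨c, hc⟩, by rw [phi_apply, MulEquiv.symm_apply_apply]⟩

theorem phi_z (hz : orderOf z = 2) (H : Subgroup (Subgroup.centralizer ({z} : Set G)))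
    (e : H ≃* Matrix.SpecialLinearGroup (Fin 2) (ZMod 3))
    {c : Subgroup.centralizer ({z} : Set G)} (hc : c ∈ H) (hcz : (c : G) = z) :
    phi H e mZ = z := by
  obtain ⟨M, hM⟩ := phi_surj H e hc
  have hzz : z * z = 1 := by
    have := pow_orderOf_eq_one z
    rwa [hz, pow_two] at this
  have h1 : M * M = 1 := by
    apply phi_inj H e
    rw [map_mul, hM, hcz, hzz, map_one]
  rcases sq_one M h1 with rfl | rfl
  · exfalso
    rw [map_one, hcz] at hM
    rw [← hM, orderOf_one] at hz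
    exact absurd hz (by norm_num)
  · rw [hM, hcz]

theorem two (hz : orderOf z = 2)
    (hn₁ : (H₁.subgroupOf (H₁ ⊔ H₂)).Normal) (hn₂ : (H₂.subgroupOf (H₁ ⊔ H₂)).Normal)
    (e₁ : H₁ ≃* Matrix.SpecialLinearGroup (Fin 2) (ZMod 3))
    (e₂ : H₂ ≃* Matrix.SpecialLinearGroup (Fin 2) (ZMod 3))
    (hmeet : (H₁ ⊓ H₂).map (Subgroup.subtype (Subgroup.centralizer ({z} : Set G))) =
      Subgroup.zpowers z) : Two z (phi H₁ e₁) (phi H₂ e₂) := by
  have hzz : z * z = 1 := by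
    have := pow_orderOf_eq_one z
    rwa [hz, pow_two] at this
  have hz1 : z ≠ 1 := by
    rintro rfl
    rw [orderOf_one] at hz
    exact absurd hz (by norm_num)
  have hzp : ∀ x ∈ Subgroup.zpowers z, x = 1 ∨ x = z := by
    intro x hx
    obtain ⟨n, rfl⟩ := Subgroup.mem_zpowers_iff.1 hx
    rcases Int.even_or_odd' n with ⟨k, rfl | rfl⟩
    · left
      rw [zpow_mul, zpow_two, hzz, one_zpow]
    · right
      rw [zpow_add, zpow_mul, zpow_two, hzz, one_zpow, one_mul, zpow_one]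
  have hzm : z ∈ (H₁ ⊓ H₂).map (Subgroup.subtype (Subgroup.centralizer ({z} : Set G))) := by
    rw [hmeet]; exact Subgroup.mem_zpowers z
  obtain ⟨c, ⟨hc1, hc2⟩, hcz⟩ := hzm
  have z₁ := phi_z hz H₁ e₁ hc1 hcz
  have z₂ := phi_z hz H₂ e₂ hc2 hcz
  have inter : ∀ c : Subgroup.centralizer ({z} : Set G), c ∈ H₁ → c ∈ H₂ →
      (c : G) = 1 ∨ (c : G) = z := by
    intro c h1 h2
    apply hzp
    rw [← hmeet]
    exact ⟨c, ⟨h1, h2⟩, rfl⟩
  have hcomm0 : ∀ (A N : S23), A ^ 3 = 1 →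
      phi H₁ e₁ A * phi H₂ e₂ N = phi H₂ e₂ N * phi H₁ e₁ A := by
    intro A N hA
    apply comm_of hzz hz1
    · exact Subgroup.mem_centralizer_singleton_iff.1
        (((e₁.symm A : H₁) : Subgroup.centralizer ({z} : Set G)).2)
    · rw [← map_pow, hA, map_one]
    · have haH : ((e₁.symm A : H₁) : Subgroup.centralizer ({z} : Set G)) ∈ H₁ :=
        (e₁.symm A : H₁).2
      have hnH : ((e₂.symm N : H₂) : Subgroup.centralizer ({z} : Set G)) ∈ H₂ :=
        (e₂.symm N : H₂).2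
      rw [phi_apply, phi_apply]
      generalize ((e₁.symm A : H₁) : Subgroup.centralizer ({z} : Set G)) = a at haH ⊢
      generalize ((e₂.symm N : H₂) : Subgroup.centralizer ({z} : Set G)) = n at hnH ⊢
      have haK : a ∈ H₁ ⊔ H₂ := Subgroup.mem_sup_left haH
      have hnK : n ∈ H₁ ⊔ H₂ := Subgroup.mem_sup_right hnH
      have h1 : a * n * a⁻¹ ∈ H₂ := hn₂.conj_mem ⟨n, hnK⟩ hnH ⟨a, haK⟩
      have h2 : n * a⁻¹ * n⁻¹ ∈ H₁ := hn₁.conj_mem ⟨a⁻¹, inv_mem haK⟩ (inv_mem haH) ⟨n, hnK⟩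
      have h3 : a * n * a⁻¹ * n⁻¹ ∈ H₂ := mul_mem h1 (inv_mem hnH)
      have h4 : a * n * a⁻¹ * n⁻¹ ∈ H₁ := by
        have e : a * n * a⁻¹ * n⁻¹ = a * (n * a⁻¹ * n⁻¹) := by group
        rw [e]
        exact mul_mem haH h2
      exact inter _ h4 h3
  refine ⟨phi_inj _ _, phi_inj _ _, z₁, z₂, ?_, ?_⟩
  · intro M N
    rcases three_three M with rfl | ⟨A, B, hA, hB, rfl⟩
    · rw [z₁]
      exact (Subgroup.mem_centralizer_singleton_iff.1
        (((e₂.symm N : H₂) : Subgroup.centralizer ({z} : Set G)).2)).symm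
    · rw [map_mul, mul_assoc, hcomm0 B N hB, ← mul_assoc, hcomm0 A N hA, mul_assoc]
  · intro M N h
    have h0 : ((e₁.symm M : H₁) : Subgroup.centralizer ({z} : Set G)) = (e₂.symm N : H₂) :=
      Subtype.ext h
    have h1 : ((e₁.symm M : H₁) : Subgroup.centralizer ({z} : Set G)) ∈ H₂ := by
      rw [h0]; exact (e₂.symm N : H₂).2
    rcases inter _ (e₁.symm M : H₁).2 h1 with h2 | h2
    · left
      apply phi_inj H₁ e₁
      rw [phi_apply, h2, map_one]
    · right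
      apply phi_inj H₁ e₁
      rw [phi_apply, h2, z₁]

/-- elements of `H₁ ⊔ H₂` -/
theorem mem_sup (e₁ : H₁ ≃* Matrix.SpecialLinearGroup (Fin 2) (ZMod 3))
    (e₂ : H₂ ≃* Matrix.SpecialLinearGroup (Fin 2) (ZMod 3))
    (h : Two z (phi H₁ e₁) (phi H₂ e₂)) {c : Subgroup.centralizer ({z} : Set G)}
    (hc : c ∈ H₁ ⊔ H₂) : ∃ M N, (c : G) = phi H₁ e₁ M * phi H₂ e₂ N := by
  let T : Subgroup (Subgroup.centralizer ({z} : Set G)) :=
    { carrier := {c | ∃ M N, (c : G) = phi H₁ e₁ M * phi H₂ e₂ N}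
      mul_mem' := by
        rintro a b ⟨M, N, h1⟩ ⟨M', N', h2⟩
        exact ⟨M * M', N * N', by rw [Subgroup.coe_mul, h1, h2, h.mul]⟩
      one_mem' := ⟨1, 1, by rw [map_one, map_one, mul_one]; rfl⟩
      inv_mem' := by
        rintro a ⟨M, N, h1⟩
        exact ⟨M⁻¹, N⁻¹, by rw [Subgroup.coe_inv, h1, h.inv]⟩ }
  have h1 : H₁ ⊔ H₂ ≤ T := by
    rw [sup_le_iff]
    constructor
    · intro a ha
      obtain ⟨M, hM⟩ := phi_surj H₁ e₁ ha
      exact ⟨M, 1, by rw [hM, map_one, mul_one]⟩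
    · intro a ha
      obtain ⟨M, hM⟩ := phi_surj H₂ e₂ ha
      exact ⟨1, M, by rw [hM, map_one, one_mul]⟩
  exact h1 hc

theorem sup_mem (e₁ : H₁ ≃* Matrix.SpecialLinearGroup (Fin 2) (ZMod 3))
    (e₂ : H₂ ≃* Matrix.SpecialLinearGroup (Fin 2) (ZMod 3)) (M N : S23) :
    ∃ c : ↥(H₁ ⊔ H₂), ((c : Subgroup.centralizer ({z} : Set G)) : G) =
      phi H₁ e₁ M * phi H₂ e₂ N :=
  ⟨⟨(e₁.symm M : H₁) * (e₂.symm N : H₂), mul_mem (Subgroup.mem_sup_left (e₁.symm M : H₁).2)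
    (Subgroup.mem_sup_right (e₂.symm N : H₂).2)⟩, rfl⟩

theorem pCore_map [Finite G] (e₁ : H₁ ≃* Matrix.SpecialLinearGroup (Fin 2) (ZMod 3))
    (e₂ : H₂ ≃* Matrix.SpecialLinearGroup (Fin 2) (ZMod 3))
    (h : Two z (phi H₁ e₁) (phi H₂ e₂)) :
    (((Cfsg.pCore 2 ↥(H₁ ⊔ H₂)).map (Subgroup.subtype (H₁ ⊔ H₂))).map
      (Subgroup.subtype (Subgroup.centralizer ({z} : Set G)))) = QQ h := by
  have : Fact (Nat.Prime 2) := ⟨Nat.prime_two⟩
  have hle : ((QQ h).comap ((Subgroup.subtype (Subgroup.centralizer ({z} : Set G))).comp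
      (Subgroup.subtype (H₁ ⊔ H₂)))) ≤ Cfsg.pCore 2 ↥(H₁ ⊔ H₂) := by
    apply le_sSup
    constructor
    · refine ⟨fun n hn k => ?_⟩
      obtain ⟨M, N, h1⟩ := mem_sup e₁ e₂ h k.2
      obtain ⟨A, B, hA, hB, h2⟩ := hn
      refine ⟨M * A * M⁻¹, N * B * N⁻¹, ?_, ?_, ?_⟩
      · rw [conj_pow, hA]; group
      · rw [conj_pow, hB]; group
      · have h2' : ((n : Subgroup.centralizer ({z} : Set G)) : G) =
          phi H₁ e₁ A * phi H₂ e₂ B := h2
        show ((k : Subgroup.centralizer ({z} : Set G)) : G) *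
          ((n : Subgroup.centralizer ({z} : Set G)) : G) *
          ((k : Subgroup.centralizer ({z} : Set G)) : G)⁻¹ = _
        rw [h1, h2', h.inv, h.mul, h.mul]
    · intro x
      refine ⟨2, ?_⟩
      obtain ⟨A, B, hA, hB, h2⟩ := x.2
      have h2' : (((x : ↥(H₁ ⊔ H₂)) : Subgroup.centralizer ({z} : Set G)) : G) =
          phi H₁ e₁ A * phi H₂ e₂ B := h2
      apply Subtype.ext
      apply Subtype.ext
      apply Subtype.ext
      show (((x : ↥(H₁ ⊔ H₂)) : Subgroup.centralizer ({z} : Set G)) : G) ^ (2 ^ 2) = 1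
      rw [h2', Commute.mul_pow (h.comm A B), ← map_pow, ← map_pow,
        show (2 ^ 2 : ℕ) = 4 from rfl, hA, hB, map_one, map_one, mul_one]
  apply le_antisymm
  · rintro _ ⟨_, ⟨x, hx, rfl⟩, rfl⟩
    obtain ⟨M, N, h1⟩ := mem_sup e₁ e₂ h x.2
    obtain ⟨B, hB, hB'⟩ := four_three M
    obtain ⟨D, hD, hD'⟩ := four_three N
    obtain ⟨y, hy⟩ := sup_mem (z := z) e₁ e₂ (M * B) (N * D)
    have hyQ : y ∈ Cfsg.pCore 2 ↥(H₁ ⊔ H₂) := hle ⟨_, _, hB', hD', hy⟩
    have hxy : x⁻¹ * y ∈ Cfsg.pCore 2 ↥(H₁ ⊔ H₂) := mul_mem (inv_mem hx) hyQ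
    have hval : (((x⁻¹ * y : ↥(H₁ ⊔ H₂)) : Subgroup.centralizer ({z} : Set G)) : G) =
        phi H₁ e₁ B * phi H₂ e₂ D := by
      show ((x : Subgroup.centralizer ({z} : Set G)) : G)⁻¹ *
        ((y : Subgroup.centralizer ({z} : Set G)) : G) = _
      rw [hy, h1, h.inv, h.mul, inv_mul_cancel_left, inv_mul_cancel_left]
    have hcube : (x⁻¹ * y) ^ 3 = 1 := by
      apply Subtype.ext
      apply Subtype.ext
      show (((x⁻¹ * y : ↥(H₁ ⊔ H₂)) : Subgroup.centralizer ({z} : Set G)) : G) ^ 3 = 1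
      rw [hval, Commute.mul_pow (h.comm B D), ← map_pow, ← map_pow, hB, hD, map_one, map_one,
        mul_one]
    have h2 : x⁻¹ * y = 1 := by
      have h3 := Cfsg.Agent.OddOrderLocal.PLengthOne.isPGroup_pCore (G := ↥(H₁ ⊔ H₂)) 2
      obtain ⟨k, hk⟩ := h3 ⟨x⁻¹ * y, hxy⟩
      have hk' : (x⁻¹ * y) ^ 2 ^ k = 1 := congrArg Subtype.val hk
      have d1 := orderOf_dvd_of_pow_eq_one hk'
      have d2 := orderOf_dvd_of_pow_eq_one hcube
      have hcop : Nat.Coprime (2 ^ k) 3 := Nat.Coprime.pow_left k (by norm_num)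
      have d3 := Nat.eq_one_of_dvd_coprimes hcop d1 d2
      exact orderOf_eq_one_iff.1 d3
    have h3 : x = y := inv_mul_eq_one.1 h2
    show ((x : Subgroup.centralizer ({z} : Set G)) : G) ∈ QQ h
    rw [h3, hy]
    exact ⟨_, _, hB', hD', rfl⟩
  · rintro _ ⟨M, N, hM, hN, rfl⟩
    obtain ⟨y, hy⟩ := sup_mem (z := z) e₁ e₂ M N
    have hyQ : y ∈ Cfsg.pCore 2 ↥(H₁ ⊔ H₂) := hle ⟨_, _, hM, hN, hy⟩
    exact ⟨_, ⟨y, hyQ, rfl⟩, hy⟩

end

/-- The hypotheses of the statements give coordinates. -/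
theorem main [Finite G] (z : G) (hz : orderOf z = 2)
    (H₁ H₂ : Subgroup (Subgroup.centralizer ({z} : Set G)))
    (hn₁ : (H₁.subgroupOf (H₁ ⊔ H₂)).Normal) (hn₂ : (H₂.subgroupOf (H₁ ⊔ H₂)).Normal)
    (e₁ : H₁ ≃* Matrix.SpecialLinearGroup (Fin 2) (ZMod 3))
    (e₂ : H₂ ≃* Matrix.SpecialLinearGroup (Fin 2) (ZMod 3))
    (hmeet : (H₁ ⊓ H₂).map (Subgroup.subtype (Subgroup.centralizer ({z} : Set G))) =
      Subgroup.zpowers z)
    (Q : Subgroup (Subgroup.centralizer ({z} : Set G))) [Q.Normal]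
    (hQ : Q = (Cfsg.pCore 2 ↥(H₁ ⊔ H₂)).map (Subgroup.subtype (H₁ ⊔ H₂)))
    (hF : Cfsg.generalizedFittingSubgroup (Subgroup.centralizer ({z} : Set G)) = Q)
    (hnwc : ∃ g : G, (∃ hq : g * z * g⁻¹ ∈ Subgroup.centralizer ({z} : Set G),
      (⟨g * z * g⁻¹, hq⟩ : Subgroup.centralizer ({z} : Set G)) ∈ Q) ∧ g * z * g⁻¹ ≠ z)
    (hH : Nat.card ↥(Subgroup.centralizer ({z} : Set G)) = 2 ^ 7 * 3 ^ 2)
    (hQQg : ∀ g : G, g * z * g⁻¹ ∈ Q.map (Subgroup.subtype (Subgroup.centralizer ({z} : Set G))) →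
      g * z * g⁻¹ ≠ z → Nat.card ↥((Q.map (Subgroup.subtype (Subgroup.centralizer ({z} : Set G)))) ⊓
      (Q.map (Subgroup.subtype (Subgroup.centralizer ({z} : Set G)))).map
        (MulAut.conj g).toMonoidHom) = 4) :
    ∃ h : Two z (phi H₁ e₁) (phi H₂ e₂), Large (QQ h) z ∧ ∃ g : G, g * z * g⁻¹ ∈ QQ h ∧
      g * z * g⁻¹ ≠ z ∧ ∃ i j k l x₁ x₂ y s, Tw (QQ h) z i j k l x₁ x₂ y s ∧ IsConj z s ∧
      IsConj z (y * s) := by
  have h := two hz hn₁ hn₂ e₁ e₂ hmeet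
  have hQQ : Q.map (Subgroup.subtype (Subgroup.centralizer ({z} : Set G))) = QQ h := by
    rw [hQ]
    exact pCore_map e₁ e₂ h
  have hmem : ∀ c : Subgroup.centralizer ({z} : Set G), c ∈ Q ↔ (c : G) ∈ QQ h := by
    intro c
    rw [← hQQ]
    constructor
    · intro hc
      exact ⟨c, hc, rfl⟩
    · rintro ⟨d, hd, hdc⟩
      have : d = c := Subtype.ext hdc
      rwa [← this]
  have hl : Large (QQ h) z := by
    apply h.large
    · intro g hg x hx
      rw [← hQQ] at hx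
      obtain ⟨c, hc, rfl⟩ := hx
      have hg' : g ∈ Subgroup.centralizer ({z} : Set G) :=
        Subgroup.mem_centralizer_singleton_iff.2 hg
      have h1 : (⟨g, hg'⟩ : Subgroup.centralizer ({z} : Set G)) * c * ⟨g, hg'⟩⁻¹ ∈ Q :=
        Subgroup.Normal.conj_mem inferInstance c hc _
      exact (hmem _).1 h1
    · intro g hg hx
      have hg' : g ∈ Subgroup.centralizer ({z} : Set G) :=
        Subgroup.mem_centralizer_singleton_iff.2 hg
      have h1 : (⟨g, hg'⟩ : Subgroup.centralizer ({z} : Set G)) ∈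
          Subgroup.centralizer (Cfsg.generalizedFittingSubgroup
            (Subgroup.centralizer ({z} : Set G)) :
            Set (Subgroup.centralizer ({z} : Set G))) := by
        rw [hF, Subgroup.mem_centralizer_iff]
        intro c hc
        apply Subtype.ext
        exact (hx c ((hmem c).1 hc)).symm
      have h2 := Cfsg.Agent.S1313.centralizer_le _ h1
      rw [hF] at h2
      exact (hmem _).1 h2
  have hC : Nat.card (Subgroup.centralizer ({z} : Set G)) = 1152 := by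
    rw [hH]; norm_num
  have hO : ∀ N : Subgroup G, QQ h ≤ N → N ≤ Subgroup.centralizer ({z} : Set G) →
      (∀ c ∈ Subgroup.centralizer ({z} : Set G), ∀ n ∈ N, c * n * c⁻¹ ∈ N) → IsPGroup 2 N →
      N ≤ QQ h := by
    intro N _ hN hnorm h2
    have h3 : (N.subgroupOf (Subgroup.centralizer ({z} : Set G))).Normal :=
      ⟨fun n hn c => hnorm c c.2 n hn⟩
    have h4 : IsPGroup 2 (N.subgroupOf (Subgroup.centralizer ({z} : Set G))) :=
      h2.of_equiv (Subgroup.subgroupOfEquivOfLe hN).symm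
    have h5 := Cfsg.Agent.LargeExtra.TwoCentral.le_of_normal_two h3 h4
    rw [hF] at h5
    intro n hn
    exact (hmem ⟨n, hN hn⟩).1 (h5 hn)
  obtain ⟨g, ⟨hq, hgQ⟩, hne⟩ := hnwc
  have hg : g * z * g⁻¹ ∈ QQ h := (hmem _).1 hgQ
  have h4 := hQQg g (by rw [hQQ]; exact hg) hne
  rw [hQQ] at h4
  exact ⟨h, hl, g, hg, hne, U4Main.tw_of h hl hC hO hg hne h4⟩

end Cfsg.Agent.H870.U4Setup
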